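import Groth.Agent.Hopf.GenExt.Glue
import Groth.Agent.AlgGrp2.DiagBaseChange
import Groth.Agent.Misc7.Magnet.LineIso

/-!
Cocharacters defined at the generic point of a normal scheme.
-/

set_option autoImplicit false
universe u

open CategoryTheory CategoryTheory.Limits MonoidalCategory CartesianMonoidalCategory MonObj GrpObj AlgebraicGeometry
open Groth.Reductive Groth.Reductive.MTInt

noncomputable section

namespace Groth.GenExt

variable {S : Scheme.{u}}

theorem smooth_Gm (S : Scheme.{u}) : Smooth (Red.Gm S).hom := by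
  have h : Smooth (Red.diag (ULift.{u} ℤ) ℤ).hom := by
    show Smooth (Spec.map _)
    rw [HasRingHomProperty.Spec_iff (P := @Smooth)]
    exact RingHom.smooth_algebraMap.mpr (Groth.Misc7.Mag.smooth_laurent (ULift.{u} ℤ))
  exact MorphismProperty.pullback_snd _ _ h

theorem connectedSpace_fibre_Gm (S : Scheme.{u}) (s : S) :
    ConnectedSpace ↥(Limits.pullback (Red.Gm S).hom (S.fromSpecResidueField s)) := by
  let K := S.residueField s
  let p : Spec (CommRingCat.of K) ⟶ S := S.fromSpecResidueField s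
  let i1 : Red.diag K ℤ ≅ Red.bc p (Red.Gm S) :=
    Groth.AlgGrp2.diagIsoDS K ℤ ≪≫
      eqToIso (congrArg (fun q => (Over.pullback q).obj (Red.diag (ULift.{u} ℤ) ℤ))
        (specULiftZIsTerminal.hom_ext _ (p ≫ Limits.IsTerminal.from specULiftZIsTerminal _))) ≪≫
      (Over.pullbackComp p (Limits.IsTerminal.from specULiftZIsTerminal _)).app _
  have : ConnectedSpace (Red.diag K ℤ).left :=
    inferInstanceAs (ConnectedSpace ↥(Spec (CommRingCat.of (MonoidAlgebra K (Multiplicative ℤ)))))
  have : ConnectedSpace ↥((Over.forget _).obj (Red.diag K ℤ)) := this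
  exact ((Over.forget _).mapIso i1).hom.homeomorph.surjective.connectedSpace
    ((Over.forget _).mapIso i1).hom.homeomorph.continuous

variable {H T : Over S} [GrpObj H] [GrpObj T]

theorem GenHom.ofHom_val_map {E : Scheme.{u}} (ζ : E ⟶ S) [Mono ζ] (u : H ⟶ T) [IsMonHom u]
    {Z : Over S} (h : Gen ζ Z) (x : Z ⟶ H) :
    (GenHom.ofHom ζ ((Over.pullback ζ).map u)).val h x = x ≫ u := by
  show h.iso.inv ≫ bcPointEquiv ζ T _ ((bcPointEquiv ζ H _).symm (h.iso.hom ≫ x) ≫ _) = _
  rw [bcPointEquiv_comp, bcPointEquiv_map, ← Category.assoc ((Over.map ζ).map _), ← bcPointEquiv_comp,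
    Category.comp_id, MulEquiv.apply_symm_apply, Category.assoc, Iso.inv_hom_id_assoc]

/-- Transport along an isomorphism of the generic point. -/
def GenHom.change {E E' : Scheme.{u}} {ζ : E ⟶ S} {ζ' : E' ⟶ S} (hg : ∀ Z : Over S, Gen ζ Z → Gen ζ' Z)
    (Φ : GenHom ζ' H T) : GenHom ζ H T where
  val h := Φ.val (hg _ h)
  nat w hZ hW x := Φ.nat w (hg _ hZ) (hg _ hW) x

end Groth.GenExt
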