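import Groth.Agent.Hopf.GenExt.Descend
import Groth.Agent.Reductive.MTLocTriv

/-!
Character values of a generically defined homomorphism to a group of multiplicative type; the
extension over an affine chart.
-/

set_option autoImplicit false
universe u

open CategoryTheory CategoryTheory.Limits MonoidalCategory CartesianMonoidalCategory MonObj GrpObj AlgebraicGeometry
open scoped TensorProduct
open Groth.Reductive Groth.Reductive.MTInt

noncomputable section

namespace Groth.GenExt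

variable {S : Scheme.{u}} {H T : Over S} [GrpObj H] [GrpObj T]
variable {R : Type u} [CommRing R] [IsDomain R] (v : Spec (CommRingCat.of R) ⟶ S) [IsOpenImmersion v]

omit [IsDomain R] [GrpObj H] in
/-- The values of a trivialisation in `Q`. -/
theorem exists_val {Λ : Type u} [CommRing Λ] [Algebra R Λ] (τ : Triv T (sp v Λ)) (Q : Type u) [CommRing Q]
    [Algebra R Q] (z : Λ →ₐ[R] Q) :
    ∃ val : (sp v Q ⟶ T) ≃* (Multiplicative τ.M →* Q),
      ∀ (x : sp v Q ⟶ T) (m : Multiplicative τ.M), val x m = glob v Q (τ.val (spMap v z) x m) := by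
  refine ⟨(τ.val (spMap v z)).trans (MulEquiv.monoidHomCongrRight (glob v Q).toMulEquiv), fun x m => rfl⟩

omit [GrpObj H] in
/-- A domain over `R` dominating a given prime, over which `T` is trivialised. -/
theorem exists_domain_triv (hT : LocTriv T) (p : Ideal R) [p.IsPrime] :
    ∃ (Λ : Type u) (_ : CommRing Λ) (_ : IsDomain Λ) (_ : Algebra R Λ) (P : Ideal Λ),
      P.IsPrime ∧ Function.Injective (algebraMap R Λ) ∧ P.comap (algebraMap R Λ) = p ∧
        Nonempty (Triv T (sp v Λ)) := by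
  have : IsAffine (sp v R).left := inferInstanceAs (IsAffine (Spec (CommRingCat.of R)))
  obtain ⟨c, hc⟩ := hT.2 (sp v R) inferInstance
  obtain ⟨i, z, hz⟩ := c.surj (⟨p, inferInstance⟩ : PrimeSpectrum R)
  have := c.aff i
  obtain ⟨τ⟩ := hc i
  let A : CommRingCat.{u} := Γ((c.Z i).left, ⊤)
  let e := (c.Z i).left.isoSpec
  obtain ⟨φ, hφ⟩ : ∃ φ : CommRingCat.of R ⟶ A, Spec.map φ = e.inv ≫ (c.g i).left :=
    ⟨Spec.preimage _, Spec.map_preimage _⟩
  letI : Algebra R A := φ.hom.toAlgebra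
  let w : sp v A ⟶ c.Z i := Over.homMk e.inv (by
    rw [← Over.w (c.g i)]
    show e.inv ≫ (c.g i).left ≫ (Spec.map (CommRingCat.ofHom (algebraMap R R)) ≫ v) = Spec.map φ ≫ v
    rw [show CommRingCat.ofHom (algebraMap R R) = 𝟙 _ from rfl, Spec.map_id]
    erw [Category.id_comp]
    rw [hφ, Category.assoc])
  have : Module.Flat R A := by
    have h1 : Flat (Spec.map φ) := by rw [hφ]; have := c.flat i; infer_instance
    exact (HasRingHomProperty.Spec_iff (P := @Flat)).mp h1
  let P₁ : PrimeSpectrum A := e.hom.base z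
  have hP₁ : P₁.asIdeal.comap (algebraMap R A) = p := by
    have : (Spec.map φ).base (e.hom.base z) = (c.g i).left.base z := by
      rw [hφ, Scheme.Hom.comp_apply, ← Scheme.Hom.comp_apply e.hom, e.hom_inv_id]
      rfl
    exact congrArg PrimeSpectrum.asIdeal (this.trans hz)
  have : P₁.asIdeal.LiesOver p := ⟨hP₁.symm⟩
  obtain ⟨q, hqle, hq, hqover⟩ :=
    Ideal.exists_ideal_le_liesOver_of_le (R := R) (p := (⊥ : Ideal R)) (q := p) P₁.asIdeal bot_le
  let Λ := A ⧸ q
  refine ⟨Λ, inferInstance, inferInstance, inferInstance, P₁.asIdeal.map (Ideal.Quotient.mk q), ?_, ?_, ?_,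
    ⟨τ.restrict (spMap v (Ideal.Quotient.mkₐ R q) ≫ w)⟩⟩
  · exact Ideal.map_isPrime_of_surjective Ideal.Quotient.mk_surjective (by rwa [Ideal.mk_ker])
  · refine (injective_iff_map_eq_zero _).2 fun x hx => ?_
    have h1 : algebraMap R A x ∈ q := Ideal.Quotient.eq_zero_iff_mem.1 hx
    rw [← Ideal.mem_comap] at h1
    rwa [show q.comap (algebraMap R A) = ⊥ from hqover.over.symm] at h1
  · show (P₁.asIdeal.map (Ideal.Quotient.mk q)).comap ((Ideal.Quotient.mk q).comp (algebraMap R A)) = p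
    rw [← Ideal.comap_comap, Ideal.comap_map_of_surjective' _ Ideal.Quotient.mk_surjective, Ideal.mk_ker,
      sup_eq_left.mpr hqle, hP₁]

variable {K : Type u} [Field K] [Algebra R K] [IsFractionRing R K] {ζ : Spec (CommRingCat.of K) ⟶ S}
  (hζ : Spec.map (CommRingCat.ofHom (algebraMap R K)) ≫ v = ζ)

omit [IsDomain R] [IsFractionRing R K] [GrpObj H] [GrpObj T] [IsOpenImmersion v] in
include hζ in
theorem gen_alg (Q : Type u) [CommRing Q] [Algebra R Q] (ψ : K →ₐ[R] Q) : Gen ζ (sp v Q) :=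
  gen_sp v (algebraMap R K) hζ ψ.toRingHom ψ.comp_algebraMap

variable {B : Type u} [CommRing B] [Algebra R B] (xW : sp v B ⟶ H)
variable {C : Type u} [CommRing C] [Algebra R C] (jC : sp v C ⟶ T)
variable (Φ : GenHom ζ H T)

include hζ in
/-- The comorphism of the generic map is an integral combination of multiplicative values. -/
theorem exists_chars (hjC : ∀ (Q : Type u) [CommRing Q] [Algebra R Q] (w : sp v Q ⟶ T),
      ∃ γc : C →ₐ[R] Q, spMap v γc ≫ jC = w) [Mono jC]
    (Λ F : Type u) [CommRing Λ] [IsDomain Λ] [Algebra R Λ] [Field F] [Algebra Λ F] [IsFractionRing Λ F]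
    [Algebra R F] [IsScalarTower R Λ F] (τ : Triv T (sp v Λ)) (iK : K →ₐ[R] F)
    (g : C →ₐ[R] B ⊗[R] K)
    (hg : ∀ h : Gen ζ (sp v (B ⊗[R] K)), spMap v g ≫ jC =
      Φ.val h (spMap v Algebra.TensorProduct.includeLeft ≫ xW)) (c : C) :
    ∃ (n : ℕ) (a : Fin n → B ⊗[R] F) (lam : Fin n → Λ),
      Algebra.TensorProduct.map (AlgHom.id R B) iK (g c) =
        ∑ i, (1 : B) ⊗ₜ[R] algebraMap Λ F (lam i) * a i ∧
      ∀ (i : Fin n) (Q : Type u) [CommRing Q] [Algebra R Q] [Module.Flat R Q] (β₁ β₂ β₃ : B →ₐ[R] Q),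
        (spMap v β₁ ≫ xW) * (spMap v β₂ ≫ xW) = spMap v β₃ ≫ xW →
          Algebra.TensorProduct.map β₃ (AlgHom.id R F) (a i) =
            Algebra.TensorProduct.map β₁ (AlgHom.id R F) (a i) *
              Algebra.TensorProduct.map β₂ (AlgHom.id R F) (a i) := by
  classical
  let zA : ∀ (Q : Type u) [CommRing Q] [Algebra R Q], Λ →ₐ[R] Q ⊗[R] F := fun Q _ _ =>
    (Algebra.TensorProduct.includeRight : F →ₐ[R] Q ⊗[R] F).comp (IsScalarTower.toAlgHom R Λ F)
  have hgen : ∀ (Q : Type u) [CommRing Q] [Algebra R Q], Gen ζ (sp v (Q ⊗[R] F)) := fun Q _ _ =>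
    gen_alg v hζ _ ((Algebra.TensorProduct.includeRight : F →ₐ[R] Q ⊗[R] F).comp iK)
  let Y : ∀ (Q : Type u) [CommRing Q] [Algebra R Q], (B →ₐ[R] Q) → (sp v (Q ⊗[R] F) ⟶ T) := fun Q _ _ β =>
    Φ.val (hgen Q) (spMap v Algebra.TensorProduct.includeLeft ≫ spMap v β ≫ xW)
  let χ : ∀ (Q : Type u) [CommRing Q] [Algebra R Q], (B →ₐ[R] Q) → Multiplicative τ.M → Q ⊗[R] F :=
    fun Q _ _ β m => glob v (Q ⊗[R] F) (τ.val (spMap v (zA Q)) (Y Q β) m)
  have hχnat : ∀ (Q : Type u) [CommRing Q] [Algebra R Q] (β : B →ₐ[R] Q) (m : Multiplicative τ.M),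
      χ Q β m = Algebra.TensorProduct.map β (AlgHom.id R F) (χ B (AlgHom.id R B) m) := by
    intro Q _ _ β m
    let f := Algebra.TensorProduct.map β (AlgHom.id R F)
    have hz : spMap v (zA Q) = spMap v f ≫ spMap v (zA B) := by
      rw [← spMap_comp]; congr 1; ext x; simp [zA, f]
    have hY : Y Q β = spMap v f ≫ Y B (AlgHom.id R B) := by
      refine Eq.trans ?_ (Φ.nat (spMap v f) (hgen B) (hgen Q) _)
      show Φ.val _ _ = _
      congr 1
      rw [← Category.assoc, ← Category.assoc (spMap v f), ← spMap_comp, ← Category.assoc, ← spMap_comp,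
        ← spMap_comp]
      congr 2
    show glob v _ (τ.val (spMap v (zA Q)) (Y Q β) m) = f (glob v _ (τ.val (spMap v (zA B)) (Y B _) m))
    rw [hz, hY, τ.nat]
    exact glob_map v f _
  obtain ⟨a, ha⟩ : ∃ a : Multiplicative τ.M →* B ⊗[R] F, ∀ m, a m = χ B (AlgHom.id R B) m :=
    ⟨(glob v (B ⊗[R] F)).toMonoidHom.comp (τ.val (spMap v (zA B)) (Y B (AlgHom.id R B))), fun m => rfl⟩
  have hmul : ∀ (m : Multiplicative τ.M) (Q : Type u) [CommRing Q] [Algebra R Q] (β₁ β₂ β₃ : B →ₐ[R] Q),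
      (spMap v β₁ ≫ xW) * (spMap v β₂ ≫ xW) = spMap v β₃ ≫ xW → χ Q β₃ m = χ Q β₁ m * χ Q β₂ m := by
    intro m Q _ _ β₁ β₂ β₃ h
    have hY : Y Q β₃ = Y Q β₁ * Y Q β₂ := by
      show Φ.val _ _ = Φ.val _ _ * Φ.val _ _
      rw [← map_mul, ← MonObj.comp_mul, h]
    show glob v _ (τ.val _ (Y Q β₃) m) = _
    rw [hY, map_mul, MonoidHom.mul_apply, map_mul]
  -- the tautological point
  let ΛM := MonoidAlgebra Λ (Multiplicative τ.M)
  let z₀ : Λ →ₐ[R] ΛM := IsScalarTower.toAlgHom R Λ ΛM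
  obtain ⟨val₀, hval₀⟩ := exists_val v τ ΛM z₀
  let τc : sp v ΛM ⟶ T := val₀.symm (MonoidAlgebra.of Λ (Multiplicative τ.M))
  obtain ⟨γτ, hγτ⟩ := hjC ΛM τc
  let e₀ : ΛM →+* B ⊗[R] F := MonoidAlgebra.liftNCRingHom (zA B).toRingHom a (fun _ _ => Commute.all _ _)
  have he₀ : ∀ (m : Multiplicative τ.M) (l : Λ), e₀ (MonoidAlgebra.single m l) = zA B l * a m := fun m l =>
    MonoidAlgebra.liftNC_single _ _ _ _
  let e : ΛM →ₐ[R] B ⊗[R] F := ⟨e₀, fun x => by
    have h1 : algebraMap R ΛM x = MonoidAlgebra.single 1 (algebraMap R Λ x) :=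
      (MonoidAlgebra.coe_algebraMap (R := R) (A := Λ) (M := Multiplicative τ.M)).symm ▸ rfl
    show e₀ (algebraMap R ΛM x) = _
    rw [h1, he₀, map_one, _root_.mul_one, AlgHom.commutes]⟩
  have he : spMap v e ≫ τc = Y B (AlgHom.id R B) := by
    have hz : spMap v (zA B) = spMap v e ≫ spMap v z₀ := by
      rw [← spMap_comp]; congr 1
      refine AlgHom.ext fun x => ?_
      show zA B x = e₀ (algebraMap Λ ΛM x)
      rw [show algebraMap Λ ΛM x = MonoidAlgebra.single 1 x from rfl, he₀, map_one, _root_.mul_one]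
    apply (τ.val (spMap v (zA B))).injective
    refine MonoidHom.ext fun m => (glob v (B ⊗[R] F)).injective ?_
    rw [hz, τ.nat]
    refine (glob_map v e _).trans ?_
    rw [← hz, ← hval₀, show val₀ τc = _ from MulEquiv.apply_symm_apply _ _]
    show e₀ (MonoidAlgebra.single m 1) = _
    rw [he₀, map_one, _root_.one_mul, ha]
  have hgF : (Algebra.TensorProduct.map (AlgHom.id R B) iK).comp g = e.comp γτ := by
    apply spMap_injective v
    rw [← cancel_mono jC, spMap_comp, spMap_comp, Category.assoc, Category.assoc, hγτ, he,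
      hg (gen_alg v hζ _ Algebra.TensorProduct.includeRight),
      ← Φ.nat (spMap v (Algebra.TensorProduct.map (AlgHom.id R B) iK)) _ (hgen B)]
    show Φ.val _ _ = Φ.val _ _
    congr 1
    rw [← Category.assoc, ← spMap_comp, ← Category.assoc, ← spMap_comp]
    congr 2
    ext x
    simp
  let s := (γτ c).coeff.support
  let σ := s.equivFin
  refine ⟨s.card, fun i => a (σ.symm i).1, fun i => (γτ c).coeff (σ.symm i).1, ?_, fun i Q _ _ _ β₁ β₂ β₃ h => ?_⟩
  · rw [show Algebra.TensorProduct.map (AlgHom.id R B) iK (g c) = e (γτ c) from DFunLike.congr_fun hgF c]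
    conv_lhs => rw [← MonoidAlgebra.sum_coeff_single (γτ c), Finsupp.sum, map_sum]
    rw [← Finset.sum_coe_sort, ← σ.symm.sum_comp]
    refine Finset.sum_congr rfl fun i _ => ?_
    exact he₀ _ _
  · simp only [ha, ← hχnat]
    exact hmul _ Q β₁ β₂ β₃ h

theorem exists_clear (x : B ⊗[R] K) : ∃ r : R, r ≠ 0 ∧ ∃ b : B, r • x = b ⊗ₜ[R] (1 : K) := by
  induction x using TensorProduct.induction_on with
  | zero => exact ⟨1, one_ne_zero, 0, by rw [smul_zero, TensorProduct.zero_tmul]⟩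
  | tmul b w =>
    obtain ⟨p, q, hq, rfl⟩ := IsFractionRing.div_surjective R w
    refine ⟨q, nonZeroDivisors.ne_zero hq, p • b, ?_⟩
    rw [TensorProduct.smul_tmul, ← TensorProduct.tmul_smul, Algebra.smul_def, Algebra.smul_def,
      _root_.mul_one, mul_div_cancel₀ _ (IsFractionRing.to_map_ne_zero_of_mem_nonZeroDivisors hq)]
  | add x y hx hy =>
    obtain ⟨r, hr, b, hb⟩ := hx
    obtain ⟨r', hr', b', hb'⟩ := hy
    refine ⟨r * r', mul_ne_zero hr hr', r' • b + r • b', ?_⟩
    rw [smul_add, mul_comm r r', ← smul_smul, hb, TensorProduct.add_tmul, mul_comm r' r, ← smul_smul, hb',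
      TensorProduct.smul_tmul', TensorProduct.smul_tmul']

variable [IsNoetherianRing R] [IsIntegrallyClosed R] [Smooth H.hom] [Module.Flat R B] [IsOpenImmersion xW.left]

include hζ in
/-- Extension of the generic map over an affine chart. -/
theorem exists_chart_ext (hconn : ∀ s : S, ConnectedSpace ↥(Limits.pullback H.hom (S.fromSpecResidueField s)))
    (hT : LocTriv T) (hjC : ∀ (Q : Type u) [CommRing Q] [Algebra R Q] (w : sp v Q ⟶ T),
      ∃ γc : C →ₐ[R] Q, spMap v γc ≫ jC = w) [Mono jC] :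
    ∃ w : sp v B ⟶ T, ∀ h : Gen ζ (sp v (B ⊗[R] K)),
      spMap v Algebra.TensorProduct.includeLeft ≫ w =
        Φ.val h (spMap v Algebra.TensorProduct.includeLeft ≫ xW) := by
  have hG : Gen ζ (sp v (B ⊗[R] K)) := gen_alg v hζ _ Algebra.TensorProduct.includeRight
  obtain ⟨g, hg⟩ := hjC _ (Φ.val hG (spMap v Algebra.TensorProduct.includeLeft ≫ xW))
  let iL : B →ₐ[R] B ⊗[R] K := Algebra.TensorProduct.includeLeft
  have hinjL : Function.Injective iL :=
    Algebra.TensorProduct.includeLeft_injective (S := R) (IsFractionRing.injective R K)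
  have key : ∀ c, g c ∈ iL.range := by
    intro c
    obtain ⟨r, hr, b, hb⟩ := exists_clear (g c)
    have hdvd : ∃ b', b = r • b' := by
      refine exists_eq_smul_of_height_one hr b fun p hp _ hrp => ?_
      have := hp
      obtain ⟨Λ, _, _, _, P, hP, hΛ, hPp, ⟨τ⟩⟩ := exists_domain_triv v hT p
      let F := FractionRing Λ
      have hinjF : Function.Injective (IsScalarTower.toAlgHom R Λ F |>.comp (Algebra.ofId R Λ)) :=
        (IsFractionRing.injective Λ F).comp hΛ
      let iK : K →ₐ[R] F := IsFractionRing.liftAlgHom (g := Algebra.ofId R F) (by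
        show Function.Injective (algebraMap R F)
        rw [IsScalarTower.algebraMap_eq R Λ F]
        exact (IsFractionRing.injective Λ F).comp hΛ)
      obtain ⟨n, a, lam, hsum, hmul⟩ := exists_chars v hζ xW jC Φ hjC Λ F τ iK g (fun _ => hg) c
      refine exists_dvr_dvd v xW hconn Λ F hΛ P p hPp a lam hmul b r hr hrp ?_
      rw [← hsum, ← map_smul, hb, Algebra.TensorProduct.map_tmul, map_one, AlgHom.id_apply]
    obtain ⟨b', rfl⟩ := hdvd
    have hu : IsUnit (algebraMap R (B ⊗[R] K) r) := by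
      rw [← (Algebra.TensorProduct.includeRight : K →ₐ[R] B ⊗[R] K).commutes r]
      exact (isUnit_iff_ne_zero.mpr ((map_ne_zero_iff _ (IsFractionRing.injective R K)).mpr hr)).map _
    refine ⟨b', hu.mul_left_cancel ?_⟩
    rw [← Algebra.smul_def, ← Algebra.smul_def, hb]
    exact (map_smul iL r b').symm
  let g₀ : C →ₐ[R] B := (AlgEquiv.ofInjective iL hinjL).symm.toAlgHom.comp (g.codRestrict iL.range key)
  refine ⟨spMap v g₀ ≫ jC, fun h => ?_⟩
  rw [← Category.assoc, ← spMap_comp, ← hg]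
  congr 2
  refine AlgHom.ext fun c => ?_
  show iL ((AlgEquiv.ofInjective iL hinjL).symm ⟨g c, key c⟩) = g c
  exact congrArg Subtype.val ((AlgEquiv.ofInjective iL hinjL).apply_symm_apply ⟨g c, key c⟩)

end Groth.GenExt
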