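import Groth.Agent.RefRank.Algebra
import Groth.Agent.Calg7.ReducedPrincipal

/-!
Divisibility in a flat module over a Noetherian normal domain is tested at dominating valuation
rings of the height one primes.
-/

set_option autoImplicit false
universe u

open TensorProduct

namespace Groth.GenExt

variable {R : Type u} [CommRing R] [IsDomain R] [IsNoetherianRing R] [IsIntegrallyClosed R]

/-- At a height one prime two elements are comparable. -/
theorem exists_cross {p : Ideal R} [p.IsPrime] (hp : p.height = 1) (r x : R)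
    (h : ¬ ∃ s ∉ p, r ∣ s * x) : ∃ t ∈ p, ∃ s ∉ p, s * r = x * t := by
  obtain ⟨π, hπ, s₀, hs₀, hgen⟩ := Groth.Calg7.ReducedPrincipal.exists_generator hp
  let L := Localization.AtPrime p
  have : IsNoetherianRing L := IsLocalization.isNoetherianRing p.primeCompl L inferInstance
  have hmax : (IsLocalRing.maximalIdeal L).IsPrincipal := by
    refine ⟨⟨algebraMap R L π, le_antisymm ?_ ?_⟩⟩
    · rw [← Localization.AtPrime.map_eq_maximalIdeal, Ideal.map_le_iff_le_comap]
      intro y hy
      obtain ⟨t, ht⟩ := hgen y hy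
      refine Ideal.mem_span_singleton'.2
        ⟨algebraMap R L t * ↑((IsLocalization.map_units L (⟨s₀, hs₀⟩ : p.primeCompl)).unit⁻¹), ?_⟩
      rw [mul_right_comm, ← map_mul, ← ht, map_mul, mul_comm, ← mul_assoc, IsUnit.val_inv_mul,
        one_mul]
    · refine (Ideal.span_singleton_le_iff_mem _).2 ?_
      rw [← Localization.AtPrime.map_eq_maximalIdeal]
      exact Ideal.mem_map_of_mem _ hπ
  have : ValuationRing L :=
    ((tfae_of_isNoetherianRing_of_isLocalRing_of_isDomain L).out 4 1).mp hmax
  rcases ValuationRing.dvd_total (algebraMap R L r) (algebraMap R L x) with ⟨y, hy⟩ | ⟨y, hy⟩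
  · obtain ⟨a, s, rfl⟩ := IsLocalization.exists_mk'_eq p.primeCompl y
    refine absurd ⟨(s : R), s.2, ⟨a, ?_⟩⟩ h
    apply IsLocalization.injective L p.primeCompl_le_nonZeroDivisors
    rw [map_mul, map_mul, hy, mul_left_comm, IsLocalization.mk'_spec']
  · obtain ⟨a, s, rfl⟩ := IsLocalization.exists_mk'_eq p.primeCompl y
    have e : (s : R) * r = x * a := by
      apply IsLocalization.injective L p.primeCompl_le_nonZeroDivisors
      rw [map_mul, map_mul, hy, mul_left_comm, IsLocalization.mk'_spec']
    refine ⟨a, ?_, s, s.2, e⟩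
    by_contra ha
    exact h ⟨a, ha, ⟨(s : R), by rw [mul_comm a x, ← e, mul_comm]⟩⟩

/-- `b ∈ r B` for flat `B`, if this holds after extension to dominating rings of the height one primes
containing `r`. -/
theorem exists_eq_smul_of_height_one {B : Type u} [AddCommGroup B] [Module R B] [Module.Flat R B]
    {r : R} (hr : r ≠ 0) (b : B)
    (H : ∀ p : Ideal R, p.IsPrime → p.height = 1 → r ∈ p → ∃ (R' : Type u) (_ : CommRing R')
      (_ : IsDomain R') (_ : Algebra R R'), Function.Injective (algebraMap R R') ∧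
      (∀ s ∉ p, IsUnit (algebraMap R R' s)) ∧ (∀ t ∈ p, ¬ IsUnit (algebraMap R R' t)) ∧
      ∃ d : B ⊗[R] R', b ⊗ₜ[R] (1 : R') = r • d) :
    ∃ c : B, b = r • c := by
  classical
  let P := {p : Ideal R | p.IsPrime ∧ p.height = 1 ∧ r ∈ p}
  have : Fintype P := (Groth.Calg7.ReducedPrincipal.finite_height_one hr).fintype
  choose R' hring hdom halg hinj hu hnu d hd using fun p : P => H p.1 p.2.1 p.2.2.1 p.2.2.2
  let J : ∀ p : P, Submodule R (R' p) := fun p => LinearMap.range (LinearMap.lsmul R (R' p) r)
  let ι₀ : R →ₗ[R] ∀ p : P, R' p ⧸ J p :=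
    LinearMap.pi fun p => (J p).mkQ.comp (Algebra.linearMap R (R' p))
  have hι₀ : Ideal.span {r} ≤ LinearMap.ker ι₀ := by
    rw [Ideal.span_singleton_le_iff_mem, LinearMap.mem_ker]
    funext p
    exact (Submodule.Quotient.mk_eq_zero _).2 ⟨1, by simp [Algebra.smul_def]⟩
  let ι : (R ⧸ Ideal.span {r}) →ₗ[R] ∀ p : P, R' p ⧸ J p := Submodule.liftQ _ ι₀ hι₀
  have hιinj : Function.Injective ι := by
    refine (injective_iff_map_eq_zero ι).2 fun y hy => ?_
    obtain ⟨x, rfl⟩ := Submodule.Quotient.mk_surjective _ y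
    refine (Submodule.Quotient.mk_eq_zero _).2 (Ideal.mem_span_singleton.2
      (Groth.RefRank.dvd_of_height_one hr fun p hp hp1 => ?_))
    by_contra hno
    have := hp
    obtain ⟨t, ht, s, hs, e⟩ := exists_cross hp1 r x hno
    have hrp : r ∈ p := by
      refine (hp.mem_or_mem (?_ : s * r ∈ p)).resolve_left hs
      rw [e]; exact p.mul_mem_left _ ht
    let q : P := ⟨p, hp, hp1, hrp⟩
    obtain ⟨z, hz⟩ := (Submodule.Quotient.mk_eq_zero (J q)).1 (congrFun hy q)
    have hz' : algebraMap R (R' q) r * z = algebraMap R (R' q) x := by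
      rw [← Algebra.smul_def]; exact hz
    have e' : algebraMap R (R' q) r * algebraMap R (R' q) s =
        algebraMap R (R' q) r * (z * algebraMap R (R' q) t) := by
      rw [← map_mul, mul_comm r s, e, map_mul, ← hz', mul_assoc]
    have := mul_left_cancel₀ (fun h0 => hr (hinj q (h0.trans (map_zero _).symm))) e'
    exact hnu q t ht (isUnit_of_mul_isUnit_right (this ▸ hu q s hs))
  have hzero : LinearMap.lTensor B ι (b ⊗ₜ Ideal.Quotient.mk (Ideal.span {r}) 1) = 0 := by
    apply (TensorProduct.piRight R R B _).injective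
    funext p
    rw [map_zero, LinearMap.lTensor_tmul]
    simp only [TensorProduct.piRight_apply, TensorProduct.piRightHom_tmul, Pi.zero_apply]
    have e1 : ι (Ideal.Quotient.mk (Ideal.span {r}) 1) p = (J p).mkQ (1 : R' p) :=
      congrArg (J p).mkQ (map_one (algebraMap R (R' p)))
    rw [e1, ← LinearMap.lTensor_tmul, hd p, map_smul]
    generalize LinearMap.lTensor B (J p).mkQ (d p) = w
    induction w using TensorProduct.induction_on with
    | zero => rw [smul_zero]
    | tmul c q =>
      obtain ⟨q, rfl⟩ := Submodule.Quotient.mk_surjective _ q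
      rw [← TensorProduct.tmul_smul, ← Submodule.Quotient.mk_smul,
        (Submodule.Quotient.mk_eq_zero (J p)).2 (show r • q ∈ J p from ⟨q, rfl⟩), TensorProduct.tmul_zero]
    | add a c ha hc => rw [smul_add, ha, hc, add_zero]
  have h0 := Module.Flat.lTensor_preserves_injective_linearMap (M := B) ι hιinj
    (hzero.trans (map_zero _).symm)
  have h1 := congrArg ((TensorProduct.comm R B _).trans
    (TensorProduct.quotTensorEquivQuotSMul B (Ideal.span {r}))) h0
  simp only [LinearEquiv.trans_apply, TensorProduct.comm_tmul, map_one,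
    TensorProduct.quotTensorEquivQuotSMul_mk_one_tmul, map_zero] at h1
  rw [Submodule.Quotient.mk_eq_zero, Submodule.ideal_span_singleton_smul,
    Submodule.mem_smul_pointwise_iff_exists] at h1
  obtain ⟨c, -, rfl⟩ := h1
  exact ⟨c, rfl⟩

end Groth.GenExt
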