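import Groth.Agent.Hopf.GenExt.Key
import Groth.Agent.Hopf.GenExt.Dvd
import Groth.Agent.EGA43Valuative.DominatingDVR

/-!
Descent of character values to a finitely generated algebra and divisibility at a height one prime.
-/

set_option autoImplicit false
universe u

open CategoryTheory CategoryTheory.Limits MonoidalCategory CartesianMonoidalCategory MonObj GrpObj AlgebraicGeometry
open scoped TensorProduct

noncomputable section

namespace Groth.GenExt

section Sub

variable {R Λ F : Type u} [CommRing R] [CommRing Λ] [IsDomain Λ] [Algebra R Λ] [Field F] [Algebra Λ F]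
  [IsFractionRing Λ F] [Algebra R F] [IsScalarTower R Λ F]

/-- The fraction field of a subalgebra inside the big one. -/
def fracι (A : Subalgebra R Λ) : FractionRing A →ₐ[R] F :=
  IsFractionRing.liftAlgHom (g := (IsScalarTower.toAlgHom R Λ F).comp A.val)
    ((IsFractionRing.injective Λ F).comp Subtype.val_injective)

theorem fracι_algebraMap (A : Subalgebra R Λ) (x : A) :
    fracι (F := F) A (algebraMap A (FractionRing A) x) = algebraMap Λ F (x : Λ) :=
  IsFractionRing.lift_algebraMap (g := ((IsScalarTower.toAlgHom R Λ F).comp A.val).toRingHom)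
    ((IsFractionRing.injective Λ F).comp Subtype.val_injective) x

theorem exists_finset_range {B : Type u} [CommRing B] [Algebra R B] (x : B ⊗[R] F) :
    ∃ s : Finset Λ, ∀ A : Subalgebra R Λ, (s : Set Λ) ⊆ A →
      x ∈ Set.range (Algebra.TensorProduct.map (AlgHom.id R B) (fracι A)) := by
  classical
  induction x using TensorProduct.induction_on with
  | zero => exact ⟨∅, fun A _ => ⟨0, map_zero _⟩⟩
  | tmul b w =>
    obtain ⟨p, q, hq, rfl⟩ := IsFractionRing.div_surjective Λ w
    refine ⟨{p, q}, fun A hA => ⟨b ⊗ₜ (algebraMap A (FractionRing A) ⟨p, hA (by simp)⟩ /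
      algebraMap A (FractionRing A) ⟨q, hA (by simp)⟩), ?_⟩⟩
    rw [Algebra.TensorProduct.map_tmul, AlgHom.id_apply, map_div₀, fracι_algebraMap, fracι_algebraMap]
  | add x y hx hy =>
    obtain ⟨s, hs⟩ := hx
    obtain ⟨t, ht⟩ := hy
    refine ⟨s ∪ t, fun A hA => ?_⟩
    obtain ⟨x', hx'⟩ := hs A (subset_trans (by simp) hA)
    obtain ⟨y', hy'⟩ := ht A (subset_trans (by simp) hA)
    exact ⟨x' + y', by rw [map_add, hx', hy']⟩

end Sub

variable {S : Scheme.{u}} {H : Over S} [GrpObj H] [Smooth H.hom]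
variable {R : Type u} [CommRing R] [IsDomain R] [IsNoetherianRing R] (v : Spec (CommRingCat.of R) ⟶ S)
  [IsOpenImmersion v]
variable {B : Type u} [CommRing B] [Algebra R B] [Module.Flat R B]
  (xW : sp v B ⟶ H) [IsOpenImmersion xW.left]

/-- If `b = r f` and `f` is an integral combination of multiplicative values over a domain `Λ`, then
`r ∣ b` over a discrete valuation ring dominating a prime. -/
theorem exists_dvr_dvd
    (hconn : ∀ s : S, ConnectedSpace ↥(Limits.pullback H.hom (S.fromSpecResidueField s)))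
    (Λ F : Type u) [CommRing Λ] [IsDomain Λ] [Algebra R Λ] [Field F] [Algebra Λ F] [IsFractionRing Λ F]
    [Algebra R F] [IsScalarTower R Λ F] (hinj : Function.Injective (algebraMap R Λ))
    (P : Ideal Λ) [P.IsPrime] (p : Ideal R) (hPp : P.comap (algebraMap R Λ) = p)
    {Idx : Type} [Fintype Idx] (a : Idx → B ⊗[R] F) (lam : Idx → Λ)
    (hmul : ∀ (i : Idx) (Q : Type u) [CommRing Q] [Algebra R Q] [Module.Flat R Q] (β₁ β₂ β₃ : B →ₐ[R] Q),
      (spMap v β₁ ≫ xW) * (spMap v β₂ ≫ xW) = spMap v β₃ ≫ xW →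
        Algebra.TensorProduct.map β₃ (AlgHom.id R F) (a i) =
          Algebra.TensorProduct.map β₁ (AlgHom.id R F) (a i) *
            Algebra.TensorProduct.map β₂ (AlgHom.id R F) (a i))
    (b : B) (r : R) (hr : r ≠ 0) (hrp : r ∈ p)
    (hb : b ⊗ₜ[R] (1 : F) = r • ∑ i, (1 : B) ⊗ₜ[R] algebraMap Λ F (lam i) * a i) :
    ∃ (R' : Type u) (_ : CommRing R') (_ : IsDomain R') (_ : Algebra R R'),
      Function.Injective (algebraMap R R') ∧ (∀ s ∉ p, IsUnit (algebraMap R R' s)) ∧
        (∀ t ∈ p, ¬ IsUnit (algebraMap R R' t)) ∧ ∃ d : B ⊗[R] R', b ⊗ₜ[R] (1 : R') = r • d := by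
  classical
  choose s hs using fun i => exists_finset_range (Λ := Λ) (a i)
  let T : Finset Λ := Finset.univ.image lam ∪ Finset.univ.biUnion s
  let A : Subalgebra R Λ := Algebra.adjoin R (T : Set Λ)
  have hTA : (T : Set Λ) ⊆ A := Algebra.subset_adjoin
  have : Algebra.FiniteType R A := (A.fg_iff_finiteType).mp ⟨T, rfl⟩
  have : IsNoetherianRing A := Algebra.FiniteType.isNoetherianRing R A
  have hlam : ∀ i, lam i ∈ A := fun i => hTA (by simp [T])
  choose a₀ ha₀ using fun i => hs i A (subset_trans (by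
    intro x hx
    simp only [T, Finset.coe_union, Finset.coe_biUnion, Set.mem_union, Set.mem_iUnion]
    exact Or.inr ⟨i, by simp, hx⟩) hTA)
  let P₀ : Ideal A := P.comap A.val
  let L := Localization.AtPrime P₀
  have : IsNoetherianRing L := IsLocalization.isNoetherianRing P₀.primeCompl L inferInstance
  have hmemP : ∀ x : R, algebraMap R A x ∈ P₀ ↔ x ∈ p := fun x => by
    rw [← hPp, Ideal.mem_comap, Ideal.mem_comap]; rfl
  have hLinj : Function.Injective (algebraMap A L) :=
    IsLocalization.injective L P₀.primeCompl_le_nonZeroDivisors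
  have hAinj : Function.Injective (algebraMap R A) := fun x y h => hinj (congrArg Subtype.val h)
  have hnf : ¬ IsField L := by
    intro hf
    have h1 : algebraMap A L (algebraMap R A r) ∈ IsLocalRing.maximalIdeal L :=
      (IsLocalization.AtPrime.to_map_mem_maximal_iff L P₀ _).mpr ((hmemP r).2 hrp)
    rw [IsLocalRing.isField_iff_maximalIdeal_eq.1 hf, Ideal.mem_bot] at h1
    exact hr (hAinj ((hLinj (h1.trans (map_zero _).symm)).trans (map_zero _).symm))
  obtain ⟨R', _, _, _, φ, hφ, hloc⟩ := Groth.EGA43Val.exists_dvr_dominating L hnf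
  let φA : A →+* R' := φ.comp (algebraMap A L)
  letI : Algebra R R' := (φA.comp (algebraMap R A)).toAlgebra
  have hφA : Function.Injective φA := hφ.comp hLinj
  let φAa : A →ₐ[R] R' := ⟨φA, fun _ => rfl⟩
  refine ⟨R', inferInstance, inferInstance, inferInstance, hφA.comp hAinj, fun x hx => ?_, fun x hx hu => ?_, ?_⟩
  · exact ((IsLocalization.map_units L (⟨algebraMap R A x, fun h => hx ((hmemP x).1 h)⟩ : P₀.primeCompl)).map φ)
  · have h1 := isUnit_of_map_unit φ _ hu
    exact (IsLocalization.AtPrime.isUnit_to_map_iff L P₀ _).1 h1 ((hmemP x).2 hx)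
  let F₁ := FractionRing R'
  let θ : FractionRing A →ₐ[R] F₁ :=
    IsFractionRing.liftAlgHom (g := (IsScalarTower.toAlgHom R R' F₁).comp φAa)
      ((IsFractionRing.injective R' F₁).comp hφA)
  have hθ : ∀ x : A, θ (algebraMap A (FractionRing A) x) = algebraMap R' F₁ (φA x) :=
    fun x => IsFractionRing.lift_algebraMap (g := ((IsScalarTower.toAlgHom R R' F₁).comp φAa).toRingHom)
      ((IsFractionRing.injective R' F₁).comp hφA) x
  let j₀ : ∀ (Q : Type u) [CommRing Q] [Algebra R Q], Q ⊗[R] FractionRing A →ₐ[R] Q ⊗[R] F :=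
    fun Q _ _ => Algebra.TensorProduct.map (AlgHom.id R Q) (fracι A)
  have hj₀ : ∀ (Q : Type u) [CommRing Q] [Algebra R Q] [Module.Flat R Q], Function.Injective (j₀ Q) := by
    intro Q _ _ _
    show Function.Injective (LinearMap.lTensor Q (fracι A).toLinearMap)
    exact Module.Flat.lTensor_preserves_injective_linearMap _ (fracι (F := F) A).toRingHom.injective
  have hnat : ∀ (Q : Type u) [CommRing Q] [Algebra R Q] (β : B →ₐ[R] Q) (F' F'' : Type u) [CommRing F']
      [Algebra R F'] [CommRing F''] [Algebra R F''] (g : F' →ₐ[R] F'') (x : B ⊗[R] F'),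
      Algebra.TensorProduct.map β (AlgHom.id R F'') (Algebra.TensorProduct.map (AlgHom.id R B) g x) =
        Algebra.TensorProduct.map (AlgHom.id R Q) g (Algebra.TensorProduct.map β (AlgHom.id R F') x) := by
    intro Q _ _ β F' F'' _ _ _ _ g x
    induction x using TensorProduct.induction_on with
    | zero => simp only [map_zero]
    | tmul b r => simp only [Algebra.TensorProduct.map_tmul, AlgHom.id_apply]
    | add x y hx hy => simp only [map_add, hx, hy]
  let a₁ : Idx → B ⊗[R] F₁ := fun i => Algebra.TensorProduct.map (AlgHom.id R B) θ (a₀ i)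
  have ha₁ : ∀ i, a₁ i ∈ Set.range (ιQ R' F₁ B) := by
    intro i
    refine mem_range_of_cocycle v xW hconn (a₁ i) fun Q _ _ _ β₁ β₂ β₃ hβ => ?_
    simp only [a₁, hnat]
    rw [← map_mul]
    congr 1
    apply hj₀ Q
    rw [map_mul, ← hnat, ← hnat, ← hnat, ha₀]
    exact hmul i Q β₁ β₂ β₃ hβ
  choose d hd using ha₁
  refine ⟨∑ i, (1 : B) ⊗ₜ[R] φA ⟨lam i, hlam i⟩ * d i, ?_⟩
  apply ιQ_injective (R := R) (R' := R') (F₁ := F₁) B
  have e₀ : b ⊗ₜ[R] (1 : FractionRing A) =
      r • ∑ i, (1 : B) ⊗ₜ[R] algebraMap A (FractionRing A) ⟨lam i, hlam i⟩ * a₀ i := by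
    apply hj₀ B
    rw [map_smul, map_sum]
    simp only [map_mul, j₀, Algebra.TensorProduct.map_tmul, AlgHom.id_apply, map_one, fracι_algebraMap,
      ha₀]
    exact hb
  have e₁ := congrArg (Algebra.TensorProduct.map (AlgHom.id R B) θ) e₀
  rw [map_smul, map_sum] at e₁
  simp only [map_mul, Algebra.TensorProduct.map_tmul, AlgHom.id_apply, map_one, hθ] at e₁
  rw [map_smul, map_sum]
  simp only [map_mul, ιQ, Algebra.TensorProduct.map_tmul, AlgHom.id_apply, map_one,
    IsScalarTower.coe_toAlgHom'] at hd ⊢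
  simp only [hd]
  exact e₁

end Groth.GenExt
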