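import Groth.Agent.Hopf.GenExt.Chars
import Mathlib.AlgebraicGeometry.Morphisms.Smooth

/-!
Homomorphisms on the generic fibre extend over a normal base.
-/

set_option autoImplicit false
universe u

open CategoryTheory CategoryTheory.Limits MonoidalCategory CartesianMonoidalCategory MonObj GrpObj AlgebraicGeometry
open scoped TensorProduct
open Groth.Reductive Groth.Reductive.MTInt

noncomputable section

namespace Groth.GenExt

variable {S : Scheme.{u}} [IsIntegral S]

local notation "ζ₀" => S.fromSpecResidueField (genericPoint S)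

/-- An affine open of `Z` over an affine open of `S` containing a given point. -/
theorem exists_affine_pair (Z : Over S) (z : Z.left) :
    ∃ (V : S.Opens) (W : Z.left.Opens), IsAffineOpen V ∧ IsAffineOpen W ∧ z ∈ W ∧ W ≤ Z.hom ⁻¹ᵁ V ∧ Nonempty V := by
  obtain ⟨_, ⟨V, hV, rfl⟩, hzV, -⟩ := S.isBasis_affineOpens.exists_subset_of_mem_open
    (Set.mem_univ (Z.hom.base z)) isOpen_univ
  obtain ⟨_, ⟨W, hW, rfl⟩, hzW, hWV⟩ := Z.left.isBasis_affineOpens.exists_subset_of_mem_open
    (show z ∈ Z.hom ⁻¹ᵁ V from hzV) (Z.hom ⁻¹ᵁ V).isOpen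
  exact ⟨V, W, hV, hW, hzW, hWV, ⟨⟨_, hzV⟩⟩⟩

variable {H T : Over S} [GrpObj H] [GrpObj T]

omit [GrpObj H] [GrpObj T] in
/-- The chart of an affine open of `Z` over an affine open of the base. -/
theorem exists_chart (Z : Over S) {V : S.Opens} (hV : IsAffineOpen V) {W : Z.left.Opens} (hW : IsAffineOpen W)
    (e : W ≤ Z.hom ⁻¹ᵁ V) :
    ∃ (alg : Algebra Γ(S, V) Γ(Z.left, W)) (xW : letI := alg; sp hV.fromSpec Γ(Z.left, W) ⟶ Z),
      (letI := alg; xW.left = hW.fromSpec) ∧
      (Flat Z.hom → letI := alg; Module.Flat Γ(S, V) Γ(Z.left, W)) := by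
  letI := (Z.hom.appLE V W e).hom.toAlgebra
  refine ⟨inferInstance, Over.homMk hW.fromSpec (IsAffineOpen.SpecMap_appLE_fromSpec Z.hom hV hW e).symm, rfl,
    fun h => ?_⟩
  exact Flat.flat_appLE Z.hom hV hW e

omit [GrpObj H] [GrpObj T] in
/-- The chart of a group affine over the base. -/
theorem exists_target_chart (hT : IsAffineHom T.hom) {V : S.Opens} (hV : IsAffineOpen V) :
    ∃ (C : Type u) (_ : CommRing C) (_ : Algebra Γ(S, V) C) (jC : sp hV.fromSpec C ⟶ T), Mono jC ∧
      ∀ (Q : Type u) [CommRing Q] [Algebra Γ(S, V) Q] (w : sp hV.fromSpec Q ⟶ T),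
        ∃ γc : C →ₐ[Γ(S, V)] Q, spMap hV.fromSpec γc ≫ jC = w := by
  have hW : IsAffineOpen (T.hom ⁻¹ᵁ V) := hV.preimage T.hom
  obtain ⟨alg, jC, hj, -⟩ := exists_chart T hV hW le_rfl
  letI := alg
  have : IsOpenImmersion jC.left := by rw [hj]; infer_instance
  refine ⟨Γ(T.left, T.hom ⁻¹ᵁ V), inferInstance, alg, jC,
    ⟨fun a b h => Over.OverMorphism.ext ((cancel_mono jC.left).mp (congrArg CommaMorphism.left h))⟩,
    fun Q _ _ w => ?_⟩
  have hr : Set.range w.left.base ⊆ Set.range jC.left.base := by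
    rw [hj, hW.range_fromSpec]
    rintro _ ⟨q, rfl⟩
    show (w.left ≫ T.hom).base q ∈ V
    rw [Over.w w, ← SetLike.mem_coe, ← hV.range_fromSpec]
    exact ⟨_, rfl⟩
  obtain ⟨γc, hγc⟩ := exists_algHom hV.fromSpec (Over.homMk (IsOpenImmersion.lift jC.left w.left hr) (by
    rw [← Over.w jC, ← Category.assoc, IsOpenImmersion.lift_fac, Over.w w]) :
    sp hV.fromSpec Q ⟶ sp hV.fromSpec Γ(T.left, T.hom ⁻¹ᵁ V))
  exact ⟨γc, by rw [hγc]; exact Over.OverMorphism.ext (IsOpenImmersion.lift_fac _ _ _)⟩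

omit [GrpObj H] [GrpObj T] in
/-- Maps out of a flat object are determined by their values over the generic point. -/
theorem hom_ext_generic (hT : IsAffineHom T.hom) {Z : Over S} [Flat Z.hom] {a b : Z ⟶ T}
    (h : ∀ (Z' : Over S), Gen ζ₀ Z' → ∀ x : Z' ⟶ Z, x ≫ a = x ≫ b) : a = b := by
  choose V W hV hW hzW e hne using fun z => exists_affine_pair Z z
  refine Over.OverMorphism.ext ((Z.left.openCoverOfIsOpenCover W (TopologicalSpace.IsOpenCover.mk (by
    ext z; simpa using ⟨z, hzW z⟩))).hom_ext _ _ fun z => ?_)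
  have := hne z
  obtain ⟨alg, xW, hx, hfl⟩ := exists_chart Z (hV z) (hW z) (e z)
  letI := alg
  have := hfl inferInstance
  obtain ⟨φ, hφinj, hφ, hfrac⟩ := exists_generic (hV z)
  letI := φ.toAlgebra
  have := hfrac
  let K := (S.residueField (genericPoint S) : Type u)
  let iL : Γ(Z.left, W z) →ₐ[Γ(S, V z)] Γ(Z.left, W z) ⊗[Γ(S, V z)] K := Algebra.TensorProduct.includeLeft
  have hinj : Function.Injective iL :=
    Algebra.TensorProduct.includeLeft_injective (S := Γ(S, V z)) (IsFractionRing.injective _ K)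
  have hmono : xW ≫ a = xW ≫ b := by
    obtain ⟨C, _, _, jC, hjm, hjC⟩ := exists_target_chart hT (hV z)
    obtain ⟨γa, ha⟩ := hjC _ (xW ≫ a)
    obtain ⟨γb, hb⟩ := hjC _ (xW ≫ b)
    have e1 := h (sp (hV z).fromSpec _) (gen_alg (hV z).fromSpec hφ _ Algebra.TensorProduct.includeRight)
      (spMap (hV z).fromSpec iL ≫ xW)
    rw [Category.assoc, Category.assoc, ← ha, ← hb, ← Category.assoc, ← Category.assoc, cancel_mono jC,
      ← spMap_comp, ← spMap_comp] at e1
    have e2 := spMap_injective _ e1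
    rw [← ha, ← hb, show γa = γb from AlgHom.ext fun c => hinj (DFunLike.congr_fun e2 c)]
  have hl : xW.left ≫ a.left = xW.left ≫ b.left := congrArg CommaMorphism.left hmono
  rw [hx] at hl
  show (W z).ι ≫ a.left = (W z).ι ≫ b.left
  rw [← cancel_epi (hW z).isoSpec.inv, ← Category.assoc, ← Category.assoc, (hW z).isoSpec_inv_ι]
  exact hl

variable [IsLocallyNoetherian S]

/-- A generically defined homomorphism to a group of multiplicative type extends over a normal base. -/
theorem exists_ext (hnorm : ∀ x : S, IsIntegrallyClosed (S.presheaf.stalk x)) [Smooth H.hom]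
    (hconn : ∀ s : S, ConnectedSpace ↥(Limits.pullback H.hom (S.fromSpecResidueField s)))
    (hT : LocTriv T) (Φ : GenHom ζ₀ H T) :
    ∃ u : H ⟶ T, IsMonHom u ∧ ∀ (Z : Over S) (hZ : Gen ζ₀ Z) (x : Z ⟶ H), x ≫ u = Φ.val hZ x := by
  choose V W hV hW hzW e hne using fun z => exists_affine_pair H z
  let 𝒰 := H.left.openCoverOfIsOpenCover W (TopologicalSpace.IsOpenCover.mk (by ext z; simpa using ⟨z, hzW z⟩))
  have hloc : ∀ z, ∃ w : Over.mk ((W z).ι ≫ H.hom) ⟶ T, ∀ (Z : Over S) (hZ : Gen ζ₀ Z)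
      (x : Z ⟶ Over.mk ((W z).ι ≫ H.hom)),
        x ≫ w = Φ.val hZ (x ≫ (Over.homMk (W z).ι rfl : Over.mk ((W z).ι ≫ H.hom) ⟶ H)) := by
    intro z
    have := hne z
    obtain ⟨alg, xW, hx, hfl⟩ := exists_chart H (hV z) (hW z) (e z)
    letI := alg
    have := hfl inferInstance
    have : IsOpenImmersion xW.left := by rw [hx]; infer_instance
    obtain ⟨φ, hφinj, hφ, hfrac⟩ := exists_generic (hV z)
    letI := φ.toAlgebra
    have := hfrac
    let v := (hV z).fromSpec
    have : IsNoetherianRing Γ(S, V z) := IsLocallyNoetherian.component_noetherian ⟨V z, hV z⟩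
    have : IsIntegrallyClosed Γ(S, V z) := by
      refine IsIntegrallyClosed.of_localization_maximal fun P _ _ => ?_
      let y : PrimeSpectrum Γ(S, V z) := ⟨P, inferInstance⟩
      have hy : v.base y ∈ V z := by
        rw [← SetLike.mem_coe, ← (hV z).range_fromSpec]; exact ⟨y, rfl⟩
      letI := S.presheaf.algebra_section_stalk ⟨v.base y, hy⟩
      have : IsLocalization P.primeCompl (S.presheaf.stalk (v.base y)) := (hV z).isLocalization_stalk' y hy
      have := hnorm (v.base y)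
      exact IsIntegrallyClosed.of_equiv
        (IsLocalization.algEquiv P.primeCompl (S.presheaf.stalk (v.base y)) (Localization.AtPrime P)).toRingEquiv
    obtain ⟨C, _, _, jC, hjm, hjC⟩ := exists_target_chart hT.1 (hV z)
    obtain ⟨w, hw⟩ := exists_chart_ext v hφ xW jC Φ hconn hT hjC
    let toW : Over.mk ((W z).ι ≫ H.hom) ⟶ sp v Γ(H.left, W z) := Over.homMk (hW z).isoSpec.hom (by
      rw [← Over.w xW, hx, ← Category.assoc, ← (hW z).isoSpec_inv_ι, Iso.hom_inv_id_assoc]
      rfl)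
    have htoW : toW ≫ xW = Over.homMk (W z).ι rfl := Over.OverMorphism.ext (by
      show (hW z).isoSpec.hom ≫ xW.left = _
      rw [hx, ← (hW z).isoSpec_inv_ι, Iso.hom_inv_id_assoc]
      rfl)
    refine ⟨toW ≫ w, fun Z hZ x => ?_⟩
    rw [← htoW, ← Category.assoc, ← Category.assoc]
    generalize x ≫ toW = y
    let K := (S.residueField (genericPoint S) : Type u)
    let P := Γ(H.left, W z) ⊗[Γ(S, V z)] K
    let pk : sp v P ⟶ sp v Γ(H.left, W z) ⊗ sp v K :=
      lift (spMap v Algebra.TensorProduct.includeLeft) (spMap v Algebra.TensorProduct.includeRight)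
    have : IsIso pk.left := isIso_lift_spMap v _ _
    have : IsIso ((Over.forget S).map pk) := isIso_lift_spMap v _ _
    have : IsIso pk := isIso_of_reflects_iso pk (Over.forget S)
    obtain ⟨l, hl⟩ := hZ
    let yK : Z ⟶ sp v K := Over.homMk l (by
      show l ≫ Spec.map (CommRingCat.ofHom φ) ≫ v = Z.hom
      exact (congrArg (l ≫ ·) hφ).trans hl)
    let q := lift y yK ≫ inv pk
    have hq : q ≫ spMap v (Algebra.TensorProduct.includeLeft : Γ(H.left, W z) →ₐ[Γ(S, V z)] P) = y := by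
      rw [show spMap v (Algebra.TensorProduct.includeLeft : Γ(H.left, W z) →ₐ[Γ(S, V z)] P) = pk ≫ fst _ _ from
        (lift_fst _ _).symm]
      simp [q]
    rw [← hq, Category.assoc, Category.assoc, hw (gen_alg v hφ _ Algebra.TensorProduct.includeRight)]
    exact (Φ.nat q _ ⟨l, hl⟩ _).symm
  choose w hw using hloc
  let u₀ : H.left ⟶ T.left := 𝒰.glueMorphisms (fun z => (w z).left) (fun z z' => by
    let P : Over S := Over.mk (pullback.fst (W z).ι (W z').ι ≫ (W z).ι ≫ H.hom)
    let p₁ : P ⟶ Over.mk ((W z).ι ≫ H.hom) := Over.homMk (pullback.fst _ _) rfl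
    let p₂ : P ⟶ Over.mk ((W z').ι ≫ H.hom) := Over.homMk (pullback.snd _ _)
      (by simp [P, pullback.condition_assoc])
    have : Flat P.hom := inferInstanceAs (Flat (pullback.fst (W z).ι (W z').ι ≫ (W z).ι ≫ H.hom))
    have hp : p₁ ≫ w z = p₂ ≫ w z' := by
      refine hom_ext_generic hT.1 fun Z' hZ' x => ?_
      rw [← Category.assoc, ← Category.assoc, hw z Z' hZ', hw z' Z' hZ']
      congr 1
      rw [Category.assoc, Category.assoc]
      congr 1
      exact Over.OverMorphism.ext pullback.condition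
    exact congrArg CommaMorphism.left hp)
  have hu₀ : ∀ z, (W z).ι ≫ u₀ = (w z).left := fun z => 𝒰.ι_glueMorphisms _ _ z
  let u : H ⟶ T := Over.homMk u₀ (by
    refine 𝒰.hom_ext _ _ fun z => ?_
    show (W z).ι ≫ u₀ ≫ T.hom = (W z).ι ≫ H.hom
    rw [← Category.assoc, hu₀]
    exact Over.w (w z))
  have hu : ∀ (Z : Over S) (hZ : Gen ζ₀ Z) (x : Z ⟶ H), x ≫ u = Φ.val hZ x := by
    intro Z hZ x
    refine Over.OverMorphism.ext ((Z.left.openCoverOfIsOpenCover (fun z => x.left ⁻¹ᵁ W z) (TopologicalSpace.IsOpenCover.mk (by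
      ext q; simpa using ⟨x.left.base q, hzW (x.left.base q)⟩))).hom_ext _ _ fun z => ?_)
    let Zz : Over S := Over.mk ((x.left ⁻¹ᵁ W z).ι ≫ Z.hom)
    let i : Zz ⟶ Z := Over.homMk (x.left ⁻¹ᵁ W z).ι rfl
    let xz : Zz ⟶ Over.mk ((W z).ι ≫ H.hom) := Over.homMk (x.left ∣_ W z) (by
      show _ ≫ (W z).ι ≫ H.hom = _
      rw [morphismRestrict_ι_assoc, Over.w x]
      rfl)
    have hxz : xz ≫ (Over.homMk (W z).ι rfl : Over.mk ((W z).ι ≫ H.hom) ⟶ H) = i ≫ x :=
      Over.OverMorphism.ext (morphismRestrict_ι _ _)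
    have h1 := hw z Zz (hZ.of_hom i) xz
    rw [hxz, Φ.nat i hZ] at h1
    have hxu : xz ≫ w z = i ≫ x ≫ u := by
      rw [← Category.assoc, ← hxz, Category.assoc]
      congr 1
      exact Over.OverMorphism.ext (hu₀ z).symm
    exact congrArg CommaMorphism.left (hxu.symm.trans h1)
  refine ⟨u, Groth.AlgGrp1.isMonHom_of_points u fun X a b => ?_, hu⟩
  have : Flat (H ⊗ H).hom := inferInstanceAs (Flat (pullback.fst H.hom H.hom ≫ H.hom))
  have huniv : (fst H H * snd H H) ≫ u = (fst H H ≫ u) * (snd H H ≫ u) := by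
    refine hom_ext_generic hT.1 fun Z' hZ' x => ?_
    rw [← Category.assoc, hu Z' hZ', MonObj.comp_mul, map_mul, MonObj.comp_mul, ← Category.assoc,
      ← Category.assoc, hu Z' hZ', hu Z' hZ']
  have := congrArg (fun m => lift a b ≫ m) huniv
  simp only [MonObj.comp_mul, ← Category.assoc, lift_fst, lift_snd] at this
  exact this

omit [IsLocallyNoetherian S] [IsIntegral S] [GrpObj T] in
theorem bcPointEquiv_map [GrpObj T] {S' : Scheme.{u}} (f : S' ⟶ S) (u : H ⟶ T) :
    bcPointEquiv f T _ ((Over.pullback f).map u) = bcPointEquiv f H _ (𝟙 (Red.bc f H)) ≫ u := by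
  rw [← Category.id_comp ((Over.pullback f).map u)]
  exact (Over.mapPullbackAdj f).homEquiv_naturality_right_symm (𝟙 (Red.bc f H)) u

end Groth.GenExt
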