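import Groth.Agent.Hopf.GenExt.Pts
import Groth.Agent.GrpschSep.Fibre
import Groth.Agent.AlgGrp1.SmoothReduced
import Mathlib.RingTheory.DiscreteValuationRing.Basic
import Mathlib.FieldTheory.IsAlgClosed.AlgebraicClosure
import Mathlib.AlgebraicGeometry.AlgClosed.Basic

/-!
A multiplicative function on the generic fibre of a smooth group with connected fibres over a
discrete valuation ring has no pole along the special fibre.
-/

set_option autoImplicit false
universe u

open CategoryTheory CategoryTheory.Limits MonoidalCategory CartesianMonoidalCategory MonObj GrpObj AlgebraicGeometry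
open scoped TensorProduct

noncomputable section

namespace Groth.GenExt

variable {S : Scheme.{u}} {H : Over S} [GrpObj H]
variable {R : Type u} [CommRing R] (v : Spec (CommRingCat.of R) ⟶ S) [IsOpenImmersion v]

/-- Points of a product of test objects are a pushout of algebras. -/
theorem isIso_lift_spMap (B Q : Type u) [CommRing B] [Algebra R B] [CommRing Q] [Algebra R Q] :
    IsIso (lift (spMap v (Algebra.TensorProduct.includeLeft : B →ₐ[R] B ⊗[R] Q))
      (spMap v (Algebra.TensorProduct.includeRight : Q →ₐ[R] B ⊗[R] Q))).left := by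
  let fB := Spec.map (CommRingCat.ofHom (algebraMap R B))
  let fQ := Spec.map (CommRingCat.ofHom (algebraMap R Q))
  let mp : pullback fB fQ ⟶ pullback (fB ≫ v) (fQ ≫ v) :=
    pullback.lift (pullback.fst _ _) (pullback.snd _ _) (by rw [← Category.assoc, ← Category.assoc, pullback.condition])
  have : IsIso mp := ⟨pullback.lift (pullback.fst _ _) (pullback.snd _ _)
    (by rw [← cancel_mono v, Category.assoc, Category.assoc, pullback.condition]),
    pullback.hom_ext (by rw [Category.assoc, Category.id_comp]; exact (congrArg (mp ≫ ·) (pullback.lift_fst _ _ _)).trans (pullback.lift_fst _ _ _))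
      (by rw [Category.assoc, Category.id_comp]; exact (congrArg (mp ≫ ·) (pullback.lift_snd _ _ _)).trans (pullback.lift_snd _ _ _)),
    pullback.hom_ext (by rw [Category.assoc, Category.id_comp]; exact (congrArg (_ ≫ ·) (pullback.lift_fst _ _ _)).trans (pullback.lift_fst _ _ _))
      (by rw [Category.assoc, Category.id_comp]; exact (congrArg (_ ≫ ·) (pullback.lift_snd _ _ _)).trans (pullback.lift_snd _ _ _))⟩
  let e : Spec (CommRingCat.of (B ⊗[R] Q)) ≅ (sp v B ⊗ sp v Q).left :=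
    (pullbackSpecIso R B Q).symm ≪≫ asIso mp
  have he : (lift (spMap v (Algebra.TensorProduct.includeLeft : B →ₐ[R] B ⊗[R] Q))
      (spMap v (Algebra.TensorProduct.includeRight : Q →ₐ[R] B ⊗[R] Q))).left = e.hom := by
    rw [Over.lift_left]
    refine pullback.hom_ext ?_ ?_
    · rw [pullback.lift_fst]
      show _ = ((pullbackSpecIso R B Q).inv ≫ mp) ≫ pullback.fst (fB ≫ v) (fQ ≫ v)
      rw [Category.assoc, pullback.lift_fst, pullbackSpecIso_inv_fst']
      rfl
    · rw [pullback.lift_snd]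
      show _ = ((pullbackSpecIso R B Q).inv ≫ mp) ≫ pullback.snd (fB ≫ v) (fQ ≫ v)
      rw [Category.assoc, pullback.lift_snd, pullbackSpecIso_inv_snd]
      rfl
  rw [he]
  infer_instance

variable [Smooth H.hom] {B : Type u} [CommRing B] [Algebra R B] [Module.Flat R B]
  (xW : sp v B ⟶ H) [IsOpenImmersion xW.left]

omit [GrpObj H] [IsOpenImmersion v] [Smooth H.hom] [Module.Flat R B] in
theorem cancel_xW {Z : Over S} {a b : Z ⟶ sp v B} (h : a ≫ xW = b ≫ xW) : a = b :=
  Over.OverMorphism.ext ((cancel_mono xW.left).mp (congrArg CommaMorphism.left h))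

omit [IsOpenImmersion v] [Smooth H.hom] [GrpObj H] in
theorem mem_basicOpen_spMap_iff {A Ω : Type u} [CommRing A] [Algebra R A] [Field Ω] [Algebra R Ω]
    (f : A →ₐ[R] Ω) (a : A) :
    ((spMap v f).left.base (IsLocalRing.closedPoint Ω) : PrimeSpectrum A) ∈ PrimeSpectrum.basicOpen a ↔ f a ≠ 0 := by
  change a ∉ Ideal.comap f.toRingHom (IsLocalRing.maximalIdeal Ω) ↔ _
  rw [Ideal.mem_comap, IsLocalRing.mem_maximalIdeal, mem_nonunits_iff, isUnit_iff_ne_zero, not_not]
  rfl

omit [IsOpenImmersion v] [Smooth H.hom] [GrpObj H] in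
theorem exists_section {G : Over S} (Ω : Type u) [Field Ω] [IsAlgClosed Ω] [Algebra R Ω]
    (p : G ⟶ sp v Ω) [LocallyOfFiniteType p.left] (x : G.left) (hx : IsClosed {x}) :
    ∃ s : sp v Ω ⟶ G, s.left.base (IsLocalRing.closedPoint Ω) = x ∧ s ≫ p = 𝟙 _ := by
  refine ⟨Over.homMk (pointOfClosedPoint p.left x hx) ?_,
    pointOfClosedPoint_apply _ x hx _, Over.OverMorphism.ext ?_⟩
  · rw [← Over.w p, ← Category.assoc, pointOfClosedPoint_comp]
    exact Category.id_comp _
  · exact pointOfClosedPoint_comp _ x hx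

omit [IsOpenImmersion v] [Smooth H.hom] [GrpObj H] in
theorem exists_point_of_mem [Mono v] {A : Type u} [CommRing A] [Algebra R A] (Ω : Type u) [Field Ω]
    [Algebra R Ω] {G : Over S} (i : sp v A ⟶ G) [IsOpenImmersion i.left] (a : A) (s : sp v Ω ⟶ G)
    (hmem : s.left.base (IsLocalRing.closedPoint Ω) ∈
      i.left.base '' (PrimeSpectrum.basicOpen a : Set (PrimeSpectrum A))) :
    ∃ q : A →ₐ[R] Ω, spMap v q ≫ i = s ∧ q a ≠ 0 := by
  have : Subsingleton (sp v Ω).left := inferInstanceAs (Subsingleton (PrimeSpectrum Ω))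
  have hr : Set.range s.left.base ⊆ Set.range i.left.base := by
    rintro _ ⟨z, rfl⟩
    rw [Subsingleton.elim z (IsLocalRing.closedPoint Ω)]
    exact Set.image_subset_range _ _ hmem
  obtain ⟨q, hq⟩ := exists_algHom v (Over.homMk (IsOpenImmersion.lift i.left s.left hr) (by
    rw [← Over.w i, ← Category.assoc, IsOpenImmersion.lift_fac, Over.w s]) : sp v Ω ⟶ sp v A)
  have hqi : spMap v q ≫ i = s := by
    rw [hq]; exact Over.OverMorphism.ext (IsOpenImmersion.lift_fac _ _ _)
  refine ⟨q, hqi, ?_⟩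
  obtain ⟨P, hP, hPs⟩ := hmem
  rw [← hqi] at hPs
  have := i.left.isOpenEmbedding.injective
    (show i.left.base P = i.left.base ((spMap v q).left.base (IsLocalRing.closedPoint Ω)) from hPs)
  exact (mem_basicOpen_spMap_iff v q a).1 (this ▸ hP)

omit [IsOpenImmersion v] [Smooth H.hom] [GrpObj H] in
theorem image_basicOpen {A : Type u} [CommRing A] [Algebra R A] [_root_.IsReduced A] {G : Over S}
    (i : sp v A ⟶ G) [IsOpenImmersion i.left] {a : A} (ha : a ≠ 0) :
    IsOpen (i.left.base '' (PrimeSpectrum.basicOpen a : Set (PrimeSpectrum A))) ∧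
      (i.left.base '' (PrimeSpectrum.basicOpen a : Set (PrimeSpectrum A))).Nonempty := by
  have hne : (PrimeSpectrum.basicOpen a : Set (PrimeSpectrum A)).Nonempty := by
    by_contra h
    rw [Set.not_nonempty_iff_eq_empty, TopologicalSpace.Opens.coe_eq_empty,
      PrimeSpectrum.basicOpen_eq_bot_iff] at h
    exact ha (IsReduced.eq_zero _ h)
  exact ⟨i.left.isOpenEmbedding.isOpenMap _ (PrimeSpectrum.basicOpen a).isOpen, hne.image _⟩

omit [GrpObj H] [Module.Flat R B] in
theorem exists_lift_xW (Ω : Type u) [Field Ω] [Algebra R Ω] :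
    ∃ i : sp v (B ⊗[R] Ω) ⟶ H ⊗ sp v Ω,
      i = lift (spMap v Algebra.TensorProduct.includeLeft ≫ xW) (spMap v Algebra.TensorProduct.includeRight) ∧
      IsOpenImmersion i.left ∧ _root_.IsReduced (B ⊗[R] Ω) := by
  let e : sp v (B ⊗[R] Ω) ⟶ sp v B ⊗ sp v Ω :=
    lift (spMap v Algebra.TensorProduct.includeLeft) (spMap v Algebra.TensorProduct.includeRight)
  let i : sp v (B ⊗[R] Ω) ⟶ H ⊗ sp v Ω :=
    lift (spMap v Algebra.TensorProduct.includeLeft ≫ xW) (spMap v Algebra.TensorProduct.includeRight)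
  have hie : i = e ≫ (xW ▷ sp v Ω) := by ext1 <;> simp [i, e]
  have : IsIso e.left := isIso_lift_spMap v B Ω
  have : IsOpenImmersion (xW ▷ sp v Ω).left := by
    rw [Over.whiskerRight_left]
    infer_instance
  have : IsOpenImmersion i.left := by rw [hie, Over.comp_left]; infer_instance
  have : Smooth (snd H (sp v Ω)).left := inferInstanceAs (Smooth (pullback.snd H.hom (sp v Ω).hom))
  have : IsReduced (H ⊗ sp v Ω).left := Groth.AlgGrp1.isReduced_of_smooth (snd H (sp v Ω)).left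
  have : IsReduced (Spec (CommRingCat.of (B ⊗[R] Ω))) := isReduced_of_isOpenImmersion i.left
  exact ⟨i, rfl, ‹_›, (affine_isReduced_iff (CommRingCat.of (B ⊗[R] Ω))).mp inferInstance⟩

omit [Module.Flat R B] in
/-- Three points of the chart with multiplicative relation at which a given function does not vanish. -/
theorem exists_three (hconn : ∀ s : S, ConnectedSpace ↥(Limits.pullback H.hom (S.fromSpecResidueField s)))
    (Ω : Type u) [Field Ω] [IsAlgClosed Ω] [Algebra R Ω] (bΩ : B ⊗[R] Ω) (hb : bΩ ≠ 0) :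
    ∃ β₁ β₂ β₃ : B →ₐ[R] Ω, (spMap v β₁ ≫ xW) * (spMap v β₂ ≫ xW) = spMap v β₃ ≫ xW ∧
      Algebra.TensorProduct.lift β₁ (AlgHom.id R Ω) (fun _ _ => Commute.all _ _) bΩ ≠ 0 ∧
      Algebra.TensorProduct.lift β₂ (AlgHom.id R Ω) (fun _ _ => Commute.all _ _) bΩ ≠ 0 := by
  obtain ⟨i, hi, hio, hred⟩ := exists_lift_xW v xW Ω
  let p : H ⊗ sp v Ω ⟶ sp v Ω := snd _ _
  have : Smooth p.left := inferInstanceAs (Smooth (pullback.snd H.hom (sp v Ω).hom))
  have : LocallyOfFiniteType p.left := inferInstance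
  have : JacobsonSpace (sp v Ω).left := inferInstanceAs (JacobsonSpace (Spec (CommRingCat.of Ω)))
  have : JacobsonSpace (H ⊗ sp v Ω).left := LocallyOfFiniteType.jacobsonSpace p.left
  have hft : LocallyOfFiniteType (H.hom.fiberToSpecResidueField ((sp v Ω).hom (IsLocalRing.closedPoint Ω))) :=
    inferInstanceAs (LocallyOfFiniteType (pullback.snd H.hom _))
  have : IrreducibleSpace (H ⊗ sp v Ω).left :=
    Groth.GrpschSep.irreducibleSpace_geomPoint (sp v Ω).hom hft (hconn _)
  obtain ⟨hDo, hDne⟩ := image_basicOpen v i hb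
  set D := i.left.base '' (PrimeSpectrum.basicOpen bΩ : Set (PrimeSpectrum (B ⊗[R] Ω))) with hDdef
  have hD : ∀ s : sp v Ω ⟶ H ⊗ sp v Ω, s ≫ p = 𝟙 _ → s.left.base (IsLocalRing.closedPoint Ω) ∈ D →
      ∃ β : B →ₐ[R] Ω, spMap v β ≫ xW = s ≫ fst H _ ∧
        Algebra.TensorProduct.lift β (AlgHom.id R Ω) (fun _ _ => Commute.all _ _) bΩ ≠ 0 := by
    intro s hs hmem
    obtain ⟨q, hq, hqa⟩ := exists_point_of_mem v Ω i bΩ s hmem
    have hqR : q.comp Algebra.TensorProduct.includeRight = AlgHom.id R Ω := by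
      apply spMap_injective v
      rw [spMap_comp, ← lift_snd (spMap v Algebra.TensorProduct.includeLeft ≫ xW)
        (spMap v (Algebra.TensorProduct.includeRight : Ω →ₐ[R] B ⊗[R] Ω)), ← Category.assoc, ← hi, hq, hs]
      exact Over.OverMorphism.ext (Spec.map_id _).symm
    refine ⟨q.comp Algebra.TensorProduct.includeLeft, ?_, ?_⟩
    · rw [spMap_comp, Category.assoc, ← lift_fst (spMap v Algebra.TensorProduct.includeLeft ≫ xW)
        (spMap v (Algebra.TensorProduct.includeRight : Ω →ₐ[R] B ⊗[R] Ω)), ← Category.assoc, ← hi, hq]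
    · have e : Algebra.TensorProduct.lift (q.comp Algebra.TensorProduct.includeLeft) (AlgHom.id R Ω)
          (fun _ _ => Commute.all _ _) = q := by
        refine Algebra.TensorProduct.ext' fun b w => ?_
        rw [Algebra.TensorProduct.lift_tmul, AlgHom.comp_apply, AlgHom.id_apply]
        conv_lhs => rw [← AlgHom.id_apply (R := R) w, ← hqR, AlgHom.comp_apply, ← map_mul,
          Algebra.TensorProduct.includeLeft_apply, Algebra.TensorProduct.includeRight_apply,
          Algebra.TensorProduct.tmul_mul_tmul, _root_.mul_one, _root_.one_mul]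
      rw [e]
      exact hqa
  obtain ⟨x₁, hx₁D, hx₁⟩ := nonempty_inter_closedPoints hDne hDo.isLocallyClosed
  obtain ⟨s₁, hs₁, hs₁'⟩ := exists_section v Ω p x₁ hx₁
  obtain ⟨β₁, hβ₁, hb₁⟩ := hD s₁ hs₁' (hs₁ ▸ hx₁D)
  let h₁ := spMap v β₁ ≫ xW
  let φ : H ⊗ sp v Ω ≅ H ⊗ sp v Ω :=
    ⟨lift ((p ≫ h₁) * fst H _) p, lift ((p ≫ h₁)⁻¹ * fst H _) p,
      by ext1 <;> simp [MonObj.comp_mul, GrpObj.comp_inv, p],
      by ext1 <;> simp [MonObj.comp_mul, GrpObj.comp_inv, p]⟩
  have hcomp : φ.inv.left ≫ φ.hom.left = 𝟙 _ := by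
    rw [← Over.comp_left, φ.inv_hom_id]; rfl
  have hDo' : IsOpen (φ.hom.left.base ⁻¹' D) := hDo.preimage φ.hom.left.continuous
  have hDne' : (φ.hom.left.base ⁻¹' D).Nonempty := by
    obtain ⟨x, hx⟩ := hDne
    have he : φ.hom.left.base (φ.inv.left.base x) = x :=
      (Scheme.Hom.comp_apply φ.inv.left φ.hom.left x).symm.trans (by rw [hcomp]; rfl)
    exact ⟨φ.inv.left.base x, Set.mem_preimage.mpr (he.symm ▸ hx)⟩
  have hU : ((φ.hom.left.base ⁻¹' D) ∩ D).Nonempty := nonempty_preirreducible_inter hDo' hDo hDne' hDne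
  obtain ⟨x₂, ⟨hx₂φ, hx₂D⟩, hx₂⟩ := nonempty_inter_closedPoints hU (hDo'.inter hDo).isLocallyClosed
  obtain ⟨s₂, hs₂, hs₂'⟩ := exists_section v Ω p x₂ hx₂
  obtain ⟨β₂, hβ₂, hb₂⟩ := hD s₂ hs₂' (hs₂ ▸ hx₂D)
  have hφp : φ.hom ≫ p = p := lift_snd _ _
  have hmem₃ : (s₂ ≫ φ.hom).left.base (IsLocalRing.closedPoint Ω) ∈ D := by
    have he : (s₂ ≫ φ.hom).left.base (IsLocalRing.closedPoint Ω) = φ.hom.left.base x₂ := by
      rw [Over.comp_left, Scheme.Hom.comp_apply, hs₂]
    exact he.symm ▸ hx₂φ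
  obtain ⟨β₃, hβ₃, -⟩ := hD (s₂ ≫ φ.hom) (by rw [Category.assoc, hφp, hs₂']) hmem₃
  refine ⟨β₁, β₂, β₃, ?_, hb₁, hb₂⟩
  rw [hβ₃, hβ₂, Category.assoc, show φ.hom ≫ fst H _ = (p ≫ h₁) * fst H _ from lift_fst _ _,
    MonObj.comp_mul, ← Category.assoc, hs₂', Category.id_comp]

variable {R' : Type u} [CommRing R'] [IsDomain R'] [IsDiscreteValuationRing R'] [Algebra R R']
variable {F₁ : Type u} [Field F₁] [Algebra R' F₁] [IsFractionRing R' F₁] [Algebra R F₁]
  [IsScalarTower R R' F₁]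

variable (R' F₁) in
/-- `Q ⊗ R' → Q ⊗ F₁`. -/
abbrev ιQ (Q : Type u) [CommRing Q] [Algebra R Q] : Q ⊗[R] R' →ₐ[R] Q ⊗[R] F₁ :=
  Algebra.TensorProduct.map (AlgHom.id R Q) (IsScalarTower.toAlgHom R R' F₁)

theorem ιQ_injective (Q : Type u) [CommRing Q] [Algebra R Q] [Module.Flat R Q] :
    Function.Injective (ιQ (R := R) R' F₁ Q) := by
  show Function.Injective (LinearMap.lTensor Q (IsScalarTower.toAlgHom R R' F₁).toLinearMap)
  exact Module.Flat.lTensor_preserves_injective_linearMap _ (IsFractionRing.injective R' F₁)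

omit [IsOpenImmersion v] in
theorem exists_liftAway {C P : Type u} [CommRing C] [Algebra R C] [CommRing P] [Algebra R P] (g : C)
    (C' : Type u) [CommRing C'] [Algebra R C'] [Algebra C C'] [IsScalarTower R C C']
    [IsLocalization.Away g C'] (f : C →ₐ[R] P) (hg : IsUnit (f g)) :
    ∃ gm : C' →ₐ[R] P, gm.comp (IsScalarTower.toAlgHom R C C') = f :=
  ⟨{ IsLocalization.Away.lift (S := C') g (g := f.toRingHom) hg with
      commutes' := fun r => by
        simp [IsScalarTower.algebraMap_apply R C C'] },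
    AlgHom.ext fun c => by simp⟩

/-- **No poles**: a multiplicative element of `B ⊗ Frac R'` lies in `B ⊗ R'`. -/
theorem mem_range_of_cocycle
    (hconn : ∀ s : S, ConnectedSpace ↥(Limits.pullback H.hom (S.fromSpecResidueField s)))
    (a : B ⊗[R] F₁)
    (hmul : ∀ (Q : Type u) [CommRing Q] [Algebra R Q] [Module.Flat R Q] (β₁ β₂ β₃ : B →ₐ[R] Q),
      (spMap v β₁ ≫ xW) * (spMap v β₂ ≫ xW) = spMap v β₃ ≫ xW →
        Algebra.TensorProduct.map β₃ (AlgHom.id R F₁) a =
          Algebra.TensorProduct.map β₁ (AlgHom.id R F₁) a *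
            Algebra.TensorProduct.map β₂ (AlgHom.id R F₁) a) :
    a ∈ Set.range (ιQ R' F₁ B) := by
  classical
  obtain ⟨π, hπ⟩ := IsDiscreteValuationRing.exists_irreducible R'
  let πB : B ⊗[R] R' := (1 : B) ⊗ₜ π
  have clear : ∀ x : B ⊗[R] F₁, ∃ N y, ιQ R' F₁ B y = ιQ R' F₁ B (πB ^ N) * x := by
    intro x
    induction x using TensorProduct.induction_on with
    | zero => exact ⟨0, 0, by simp⟩
    | tmul b w =>
      obtain ⟨p, q, hq, rfl⟩ := IsFractionRing.div_surjective R' w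
      obtain ⟨n, u, rfl⟩ := IsDiscreteValuationRing.eq_unit_mul_pow_irreducible (nonZeroDivisors.ne_zero hq) hπ
      refine ⟨n, b ⊗ₜ (p * ↑u⁻¹), ?_⟩
      simp only [πB, Algebra.TensorProduct.tmul_pow, one_pow, Algebra.TensorProduct.map_tmul,
        AlgHom.id_apply, IsScalarTower.coe_toAlgHom', Algebra.TensorProduct.tmul_mul_tmul, _root_.one_mul]
      congr 1
      have hπ0 : algebraMap R' F₁ π ≠ 0 := fun h => hπ.ne_zero (IsFractionRing.injective R' F₁ (by simpa using h))
      have hu : algebraMap R' F₁ ↑u * algebraMap R' F₁ ↑u⁻¹ = 1 := by rw [← map_mul, Units.mul_inv, map_one]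
      have hu0 : algebraMap R' F₁ ↑u ≠ 0 := fun h => by simp [h] at hu
      rw [map_mul, map_mul, map_pow]
      field_simp
      linear_combination (algebraMap R' F₁ p) * hu
    | add x y hx hy =>
      obtain ⟨N, x', hx'⟩ := hx
      obtain ⟨M, y', hy'⟩ := hy
      refine ⟨N + M, πB ^ M * x' + πB ^ N * y', ?_⟩
      rw [map_add, map_mul, map_mul, hx', hy', pow_add, map_mul]
      ring
  by_contra ha
  have hex : ∃ N y, ιQ R' F₁ B y = ιQ R' F₁ B (πB ^ N) * a := clear a
  let n := Nat.find hex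
  obtain ⟨b₀, hb₀⟩ := Nat.find_spec hex
  have hn : n ≠ 0 := fun h0 => ha ⟨b₀, by rw [hb₀, show Nat.find hex = 0 from h0]; simp⟩
  -- `b₀` is not divisible by `π`
  let κ := IsLocalRing.ResidueField R'
  let Ω := AlgebraicClosure κ
  let ψ : R' →ₐ[R] Ω := IsScalarTower.toAlgHom R R' Ω
  have hker : ∀ r : R', ψ r = 0 → π ∣ r := by
    intro r hr
    have h0 : IsLocalRing.residue R' r = 0 := by
      apply (algebraMap κ Ω).injective
      rw [map_zero]
      exact (IsScalarTower.algebraMap_apply R' κ Ω r).symm.trans hr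
    rw [IsLocalRing.residue_eq_zero_iff, hπ.maximalIdeal_eq, Ideal.mem_span_singleton] at h0
    exact h0
  have hψπ : ψ π = 0 := by
    show algebraMap R' Ω π = 0
    rw [IsScalarTower.algebraMap_apply R' κ Ω]
    refine (map_eq_zero _).2 ((IsLocalRing.residue_eq_zero_iff _).2 ?_)
    rw [hπ.maximalIdeal_eq]
    exact Ideal.mem_span_singleton_self π
  let m : R' →ₗ[R] R' := LinearMap.mulLeft R π
  have hexact : Function.Exact m ψ.toLinearMap := fun r => by
    constructor
    · intro hr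
      obtain ⟨c, rfl⟩ := hker r hr
      exact ⟨c, rfl⟩
    · rintro ⟨c, rfl⟩
      show ψ (π * c) = 0
      rw [map_mul, hψπ, zero_mul]
  let bΩ : B ⊗[R] Ω := Algebra.TensorProduct.map (AlgHom.id R B) ψ b₀
  have hb : bΩ ≠ 0 := by
    intro h0
    obtain ⟨c, hc⟩ := ((Module.Flat.lTensor_exact B hexact) b₀).1 h0
    have hc' : πB * c = b₀ := by
      rw [← hc]
      clear hc
      induction c using TensorProduct.induction_on with
      | zero => simp
      | tmul b r => simp [πB, m]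
      | add x y hx hy => rw [mul_add, map_add, hx, hy]
    have hpos : 1 ≤ n := Nat.one_le_iff_ne_zero.mpr hn
    refine Nat.find_min hex (show n - 1 < n by omega) ⟨c, ?_⟩
    have hreg : IsUnit (ιQ R' F₁ B πB) := by
      have e : ιQ R' F₁ B πB = (Algebra.TensorProduct.includeRight : F₁ →ₐ[R] B ⊗[R] F₁) (algebraMap R' F₁ π) := by
        simp [πB]
      rw [e]
      refine IsUnit.map _ (isUnit_iff_ne_zero.mpr ?_)
      exact fun h => hπ.ne_zero (IsFractionRing.injective R' F₁ (by simpa using h))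
    refine hreg.mul_left_cancel ?_
    rw [← map_mul, hc', hb₀, ← _root_.mul_assoc, ← map_mul, ← pow_succ', Nat.sub_add_cancel hpos]
  obtain ⟨β₁, β₂, β₃, hβ, hb₁, hb₂⟩ := exists_three v xW hconn Ω bΩ hb
  -- the product chart
  let C := B ⊗[R] B
  let j₁ : B →ₐ[R] C := Algebra.TensorProduct.includeLeft
  let j₂ : B →ₐ[R] C := Algebra.TensorProduct.includeRight
  let pm : sp v C ⟶ H := (spMap v j₁ ≫ xW) * (spMap v j₂ ≫ xW)
  let β₁₂ : C →ₐ[R] Ω := Algebra.TensorProduct.lift β₁ β₂ (fun _ _ => Commute.all _ _)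
  have hβ₁₂₁ : β₁₂.comp j₁ = β₁ := Algebra.TensorProduct.lift_comp_includeLeft _ _ _
  have hβ₁₂₂ : β₁₂.comp j₂ = β₂ := Algebra.TensorProduct.lift_comp_includeRight' β₁ β₂ (fun _ _ => Commute.all _ _)
  have hpm : spMap v β₁₂ ≫ pm = spMap v β₃ ≫ xW := by
    rw [← hβ, MonObj.comp_mul, ← Category.assoc, ← Category.assoc, ← spMap_comp, ← spMap_comp,
      hβ₁₂₁, hβ₁₂₂]
  let pt₀ : PrimeSpectrum C := (spMap v β₁₂).left.base (IsLocalRing.closedPoint Ω)
  have hpt₀ : pm.left.base pt₀ ∈ Set.range xW.left.base := by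
    refine ⟨(spMap v β₃).left.base (IsLocalRing.closedPoint Ω), ?_⟩
    show _ = pm.left.base ((spMap v β₁₂).left.base _)
    rw [← Scheme.Hom.comp_apply, ← Scheme.Hom.comp_apply, ← Over.comp_left, ← Over.comp_left, hpm]
  obtain ⟨_, ⟨g, rfl⟩, hgmem, hgsub⟩ :=
    PrimeSpectrum.isTopologicalBasis_basic_opens.exists_subset_of_mem_open
      (show pt₀ ∈ pm.left.base ⁻¹' Set.range xW.left.base from hpt₀)
      (xW.left.isOpenEmbedding.isOpen_range.preimage pm.left.continuous)
  let C₂ := Localization.Away g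
  let loc : C →ₐ[R] C₂ := IsScalarTower.toAlgHom R C C₂
  have : Module.Flat C C₂ := IsLocalization.flat C₂ (Submonoid.powers g)
  have : Module.Flat R C₂ := Module.Flat.trans R C C₂
  have hr : Set.range (spMap v loc ≫ pm).left.base ⊆ Set.range xW.left.base := by
    rintro _ ⟨z, rfl⟩
    rw [Over.comp_left, Scheme.Hom.comp_apply]
    refine hgsub ?_
    exact (Set.ext_iff.mp (PrimeSpectrum.localization_away_comap_range C₂ g) _).mp ⟨z, rfl⟩
  obtain ⟨l, hl⟩ := exists_algHom v (Over.homMk (IsOpenImmersion.lift xW.left _ hr) (by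
    rw [← Over.w xW, ← Category.assoc, IsOpenImmersion.lift_fac]
    exact Over.w (spMap v loc ≫ pm)) : sp v C₂ ⟶ sp v B)
  have hl' : spMap v l ≫ xW = spMap v loc ≫ pm := by
    rw [hl]; exact Over.OverMorphism.ext (IsOpenImmersion.lift_fac _ _ _)
  have hgu : IsUnit (β₁₂ g) := by
    rw [isUnit_iff_ne_zero]
    intro h0
    apply hgmem
    show β₁₂ g ∈ IsLocalRing.maximalIdeal Ω
    rw [h0]; exact zero_mem _
  obtain ⟨gm, hγ⟩ := exists_liftAway g C₂ β₁₂ hgu
  have hγl : gm.comp l = β₃ := by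
    apply spMap_injective v
    apply cancel_xW v xW
    rw [spMap_comp, Category.assoc, hl', ← Category.assoc, ← spMap_comp, hγ, hpm]
  have hrel := hmul C₂ (loc.comp j₁) (loc.comp j₂) l (by
    rw [hl', spMap_comp, spMap_comp, Category.assoc, Category.assoc, ← MonObj.comp_mul])
  -- lift the relation to `C₂ ⊗ R'`
  let t : (B →ₐ[R] C₂) → (B ⊗[R] R' →ₐ[R] C₂ ⊗[R] R') := fun f => Algebra.TensorProduct.map f (AlgHom.id R R')
  have hcomm : ∀ (f : B →ₐ[R] C₂) (y : B ⊗[R] R'),
      ιQ R' F₁ C₂ (t f y) = Algebra.TensorProduct.map f (AlgHom.id R F₁) (ιQ R' F₁ B y) := by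
    intro f y
    induction y using TensorProduct.induction_on with
    | zero => simp
    | tmul b r => simp [t]
    | add x y hx hy => simp only [map_add, hx, hy]
  have hπt : ∀ f : B →ₐ[R] C₂, t f πB = (1 : C₂) ⊗ₜ π := fun f => by simp [t, πB]
  have hrel' : ((1 : C₂) ⊗ₜ[R] π) ^ n * t l b₀ = t (loc.comp j₁) b₀ * t (loc.comp j₂) b₀ := by
    apply ιQ_injective (F₁ := F₁) C₂
    rw [map_mul, map_mul, hcomm, hcomm, hcomm, hb₀, map_mul, map_mul, map_mul, hrel, ← hcomm, ← hcomm,
      ← hcomm]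
    simp only [map_pow, hπt, n]
    ring
  let gmψ : C₂ ⊗[R] R' →ₐ[R] Ω := Algebra.TensorProduct.lift gm ψ (fun _ _ => Commute.all _ _)
  have hev : ∀ f : B →ₐ[R] C₂, gmψ (t f b₀) =
      Algebra.TensorProduct.lift (gm.comp f) (AlgHom.id R Ω) (fun _ _ => Commute.all _ _) bΩ := by
    intro f
    simp only [bΩ]
    generalize b₀ = y
    induction y using TensorProduct.induction_on with
    | zero => simp
    | tmul b r => simp [gmψ, t]
    | add x y hx hy => simp only [map_add, hx, hy]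
  have := congrArg gmψ hrel'
  rw [map_mul, map_mul, map_pow, hev, hev, hev] at this
  rw [show gmψ ((1 : C₂) ⊗ₜ[R] π) = 0 by simp [gmψ, hψπ], zero_pow hn, zero_mul,
    ← AlgHom.comp_assoc, ← AlgHom.comp_assoc, hγ, hβ₁₂₁, hβ₁₂₂] at this
  exact mul_ne_zero hb₁ hb₂ this.symm

end Groth.GenExt
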