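import Groth.Agent.Reductive.MultGa
import Mathlib.AlgebraicGeometry.FunctionField
import Mathlib.AlgebraicGeometry.Morphisms.Affine

/-!
Affine test objects over a chart `v : Spec R ⟶ S`; homomorphisms defined on generic points.
-/

set_option autoImplicit false
universe u

open CategoryTheory CategoryTheory.Limits MonoidalCategory CartesianMonoidalCategory MonObj GrpObj AlgebraicGeometry
open Groth.Reductive

noncomputable section

namespace Groth.GenExt

variable {S : Scheme.{u}}

/-- `Z` lies over `ζ`. -/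
def Gen {E : Scheme.{u}} (ζ : E ⟶ S) (Z : Over S) : Prop := ∃ l : Z.left ⟶ E, l ≫ ζ = Z.hom

theorem Gen.of_hom {E : Scheme.{u}} {ζ : E ⟶ S} {Z W : Over S} (w : W ⟶ Z) (h : Gen ζ Z) : Gen ζ W := by
  obtain ⟨l, hl⟩ := h
  exact ⟨w.left ≫ l, by rw [Category.assoc, hl, Over.w w]⟩

/-- A homomorphism on the points over `ζ`. -/
structure GenHom {E : Scheme.{u}} (ζ : E ⟶ S) (H T : Over S) [GrpObj H] [GrpObj T] where
  /-- values -/
  val : ∀ {Z : Over S}, Gen ζ Z → (Z ⟶ H) →* (Z ⟶ T)
  nat : ∀ {Z W : Over S} (w : W ⟶ Z) (hZ : Gen ζ Z) (hW : Gen ζ W) (x : Z ⟶ H),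
    val hW (w ≫ x) = w ≫ val hZ x

variable {H T : Over S} [GrpObj H] [GrpObj T]

/-- The canonical comparison of an object over `ζ` with its lift. -/
def Gen.iso {E : Scheme.{u}} {ζ : E ⟶ S} {Z : Over S} (h : Gen ζ Z) :
    (Over.map ζ).obj (Over.mk h.choose) ≅ Z :=
  Over.isoMk (Iso.refl _) (by
    show 𝟙 _ ≫ Z.hom = h.choose ≫ ζ
    rw [Category.id_comp, h.choose_spec])

/-- The homomorphism on points of a homomorphism over `ζ`. -/
def GenHom.ofHom {E : Scheme.{u}} (ζ : E ⟶ S) [Mono ζ] (uη : Red.bc ζ H ⟶ Red.bc ζ T) [IsMonHom uη] :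
    GenHom ζ H T where
  val {Z} h :=
    { toFun := fun x => h.iso.inv ≫
        bcPointEquiv ζ T _ ((bcPointEquiv ζ H _).symm (h.iso.hom ≫ x) ≫ uη)
      map_one' := by
        simp only [MonObj.comp_one, map_one, MonObj.one_comp]
      map_mul' := fun a b => by
        rw [MonObj.comp_mul, map_mul, MonObj.mul_comp, map_mul, MonObj.comp_mul] }
  nat {Z W} w hZ hW x := by
    simp only [MonoidHom.coe_mk, OneHom.coe_mk]
    have hl : w.left ≫ hZ.choose = hW.choose := by
      rw [← cancel_mono ζ, Category.assoc, hZ.choose_spec, hW.choose_spec, Over.w]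
    let w' : Over.mk hW.choose ⟶ Over.mk hZ.choose := Over.homMk w.left hl
    have e : (Over.map ζ).map w' ≫ hZ.iso.hom = hW.iso.hom ≫ w :=
      Over.OverMorphism.ext (by simp [w', Gen.iso])
    have e1 : (bcPointEquiv ζ H _).symm (hW.iso.hom ≫ w ≫ x) =
        w' ≫ (bcPointEquiv ζ H _).symm (hZ.iso.hom ≫ x) := by
      apply (bcPointEquiv ζ H _).injective
      rw [MulEquiv.apply_symm_apply, bcPointEquiv_comp, MulEquiv.apply_symm_apply, reassoc_of% e]
    rw [e1, Category.assoc, bcPointEquiv_comp]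
    simp only [← Category.assoc]
    congr 1

theorem GenHom.ofHom_univ {E : Scheme.{u}} (ζ : E ⟶ S) [Mono ζ] (uη : Red.bc ζ H ⟶ Red.bc ζ T)
    [IsMonHom uη] (h : Gen ζ ((Over.map ζ).obj (Red.bc ζ H))) :
    (GenHom.ofHom ζ uη).val h (bcPointEquiv ζ H _ (𝟙 _)) = bcPointEquiv ζ T _ uη := by
  show h.iso.inv ≫ bcPointEquiv ζ T _ ((bcPointEquiv ζ H _).symm (h.iso.hom ≫ _) ≫ uη) = _
  have hc : h.choose = (Red.bc ζ H).hom := by
    rw [← cancel_mono ζ, h.choose_spec]; rfl
  let c : Over.mk h.choose ⟶ Red.bc ζ H := Over.homMk (𝟙 _) (by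
    show 𝟙 _ ≫ (Red.bc ζ H).hom = h.choose
    rw [Category.id_comp, hc])
  have hci : (Over.map ζ).map c = h.iso.hom := Over.OverMorphism.ext rfl
  have e1 : (bcPointEquiv ζ H _).symm (h.iso.hom ≫ bcPointEquiv ζ H _ (𝟙 _)) = c := by
    apply (bcPointEquiv ζ H _).injective
    rw [MulEquiv.apply_symm_apply, ← hci, ← bcPointEquiv_comp, Category.comp_id]
  rw [e1, bcPointEquiv_comp, hci, Iso.inv_hom_id_assoc]

variable {R : Type u} [CommRing R] (v : Spec (CommRingCat.of R) ⟶ S)

/-- The test object of an `R`-algebra. -/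
abbrev sp (Q : Type u) [CommRing Q] [Algebra R Q] : Over S :=
  Over.mk (Spec.map (CommRingCat.ofHom (algebraMap R Q)) ≫ v)

variable {Q Q' Q'' : Type u} [CommRing Q] [Algebra R Q] [CommRing Q'] [Algebra R Q'] [CommRing Q'']
  [Algebra R Q'']

/-- The map of test objects of an algebra map. -/
def spMap (f : Q →ₐ[R] Q') : sp v Q' ⟶ sp v Q :=
  Over.homMk (Spec.map (CommRingCat.ofHom f.toRingHom)) (by
    show Spec.map _ ≫ Spec.map _ ≫ v = Spec.map _ ≫ v
    rw [← Category.assoc, ← Spec.map_comp, ← CommRingCat.ofHom_comp, show f.toRingHom.comp (algebraMap R Q) = algebraMap R Q' from f.comp_algebraMap])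

@[simp] theorem spMap_left (f : Q →ₐ[R] Q') :
    (spMap v f).left = Spec.map (CommRingCat.ofHom f.toRingHom) := rfl

theorem spMap_comp (f : Q →ₐ[R] Q') (g : Q' →ₐ[R] Q'') :
    spMap v (g.comp f) = spMap v g ≫ spMap v f := by
  refine Over.OverMorphism.ext ?_
  rw [Over.comp_left, spMap_left, spMap_left, spMap_left]
  exact Spec.map_comp (CommRingCat.ofHom f.toRingHom) (CommRingCat.ofHom g.toRingHom)

theorem exists_algHom [Mono v] (w : sp v Q' ⟶ sp v Q) : ∃ f : Q →ₐ[R] Q', spMap v f = w := by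
  obtain ⟨g, hg⟩ : ∃ g : CommRingCat.of Q ⟶ CommRingCat.of Q', Spec.map g = w.left :=
    ⟨Spec.preimage _, Spec.map_preimage _⟩
  have e := Over.w w
  simp only [Over.mk_hom, ← Category.assoc] at e
  rw [cancel_mono v] at e
  erw [← hg, ← Spec.map_comp] at e
  exact ⟨⟨g.hom, fun r => congr($(Spec.map_injective e).hom r)⟩, Over.OverMorphism.ext hg⟩

theorem spMap_injective {f g : Q →ₐ[R] Q'} (h : spMap v f = spMap v g) : f = g := by
  have := Spec.map_injective (congrArg CommaMorphism.left h)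
  exact AlgHom.ext fun q => congr($(this).hom q)

/-- Global functions of a test object. -/
def glob (Q : Type u) [CommRing Q] [Algebra R Q] : Γ((sp v Q).left, ⊤) ≃+* Q :=
  (Scheme.ΓSpecIso (CommRingCat.of Q)).commRingCatIsoToRingEquiv

theorem glob_map (f : Q →ₐ[R] Q') (x : Γ((sp v Q).left, ⊤)) :
    glob v Q' ((spMap v f).left.appTop x) = f (glob v Q x) :=
  ConcreteCategory.congr_hom (Scheme.ΓSpecIso_naturality (CommRingCat.ofHom f.toRingHom)) x

/-- Test objects of algebras over the fraction field are generic. -/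
theorem gen_sp {K : Type u} [Field K] (φ : R →+* K) {ζ : Spec (CommRingCat.of K) ⟶ S}
    (hη : Spec.map (CommRingCat.ofHom φ) ≫ v = ζ) (ψ : K →+* Q) (hψ : ψ.comp φ = algebraMap R Q) :
    Gen ζ (sp v Q) :=
  ⟨Spec.map (CommRingCat.ofHom ψ), by
    show Spec.map _ ≫ ζ = Spec.map _ ≫ v
    rw [← hη, ← Category.assoc, ← Spec.map_comp, ← CommRingCat.ofHom_comp, hψ]⟩

omit [CommRing R] in
/-- The generic point seen from an affine open. -/
theorem exists_generic [IsIntegral S] {V : S.Opens} (hV : IsAffineOpen V) [Nonempty V] :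
    ∃ φ : Γ(S, V) →+* S.residueField (genericPoint S), Function.Injective φ ∧
      Spec.map (CommRingCat.ofHom φ) ≫ hV.fromSpec = S.fromSpecResidueField (genericPoint S) ∧
      (letI := φ.toAlgebra; IsFractionRing Γ(S, V) (S.residueField (genericPoint S))) := by
  have hmem : genericPoint S ∈ V :=
    ((genericPoint_spec S).mem_open_set_iff V.isOpen).mpr (by simpa using ‹Nonempty V›)
  have := functionField_isFractionRing_of_isAffineOpen S V hV
  let φ := (S.germToFunctionField V ≫ S.residue (genericPoint S)).hom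
  have hbij : Function.Bijective (S.residue (genericPoint S)).hom :=
    ⟨(S.residue (genericPoint S)).hom.injective, S.residue_surjective _⟩
  refine ⟨φ, hbij.1.comp (S.germToFunctionField_injective V), ?_, ?_⟩
  · show Spec.map (S.germToFunctionField V ≫ S.residue (genericPoint S)) ≫ hV.fromSpec = _
    rw [Spec.map_comp, Category.assoc]
    show Spec.map _ ≫ Spec.map (S.presheaf.germ V _ hmem) ≫ hV.fromSpec = _
    rw [← IsAffineOpen.fromSpecStalk, hV.fromSpecStalk_eq_fromSpecStalk hmem]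
    rfl
  · let := φ.toAlgebra
    let e : S.functionField ≃ₐ[Γ(S, V)] S.residueField (genericPoint S) :=
      AlgEquiv.ofRingEquiv (f := RingEquiv.ofBijective _ hbij) (fun _ => rfl)
    exact IsLocalization.isLocalization_of_algEquiv _ e

end Groth.GenExt
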